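import Cfsg.Agent.KSG55.Herm.Levi

set_option autoImplicit false
set_option linter.unusedSectionVars false

/-! Generation of stabilisers inside the Levi factor. -/

namespace Cfsg.Agent.KSG55.Herm

open Matrix Fin.NatCast Cfsg.Agent.KSG55.Sp

variable {F : Type*} [Field F] [StarRing F] {m : ℕ}

/-- A subgroup with all elementary elements and one diagonal family contains the Levi factor. -/
theorem lg_le {n : ℕ} {H : Subgroup (GL (Fin n) F)} (k : Fin n) (hd : ∀ d : (Kf F)ˣ, dgl k (liftK d) ∈ H)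
    (he : ∀ (i j : Fin n) (h : i ≠ j) (c : F), egl h c ∈ H) : LG F n ≤ H := by
  intro A hA
  have h1 : ∀ B : SpecialLinearGroup (Fin n) F, SpecialLinearGroup.toGL B ∈ H := by
    have := LinearGroup.eq_top_of_transvection_mem
      (H := H.comap (SpecialLinearGroup.toGL (n := Fin n) (R := F))) fun i j h c => by
      rw [Subgroup.mem_comap]
      have e : SpecialLinearGroup.toGL (SpecialLinearGroup.transvection h c) = egl h c :=
        Units.ext (by rw [egl_coe]; rfl)
      rw [e]; exact he i j h c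
    intro B
    exact (Subgroup.eq_top_iff' _).mp this B
  obtain ⟨d, hd'⟩ := hA
  have hdet : ((A * (dgl k (liftK d))⁻¹ : GL (Fin n) F) : Matrix (Fin n) (Fin n) F).det = 1 := by
    rw [← map_inv, Units.val_mul, det_mul, dgl_det, hd']
    exact (GeneralLinearGroup.det A).mul_inv
  have e : A = SpecialLinearGroup.toGL ⟨_, hdet⟩ * dgl k (liftK d) := by
    rw [show SpecialLinearGroup.toGL ⟨_, hdet⟩ = A * (dgl k (liftK d))⁻¹ from Units.ext rfl, inv_mul_cancel_right]
  rw [e]
  exact mul_mem (h1 _) (hd d)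

theorem blk_det (B : GL (Fin (m + 1)) F) :
    ((blk B : GL (Fin (m + 2)) F) : Matrix (Fin (m + 2)) (Fin (m + 2)) F).det =
      (B : Matrix (Fin (m + 1)) (Fin (m + 1)) F).det := by
  rw [blk_coe, det_succ_row_zero, Fin.sum_univ_succ, Finset.sum_eq_zero fun j _ => by simp [blkM_zero_succ], add_zero]
  simp [blkM_zero_zero]
  congr 1

theorem blk_LG {B : GL (Fin (m + 1)) F} (h : (blk B : GL (Fin (m + 2)) F) ∈ LG F (m + 2)) : B ∈ LG F (m + 1) := by
  rw [mem_LG] at h ⊢
  rwa [blk_det] at h

variable {H : Subgroup (GL (Fin (m + 2)) F)}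

/-- The generators of the stabiliser of the decomposition give all of it. -/
theorem blkL_mem (hC : pgl (cyc m) ∈ H) (hD : ∀ d : (Kf F)ˣ, dgl 1 (liftK d) ∈ H)
    (hX : ∀ (h : (1 : Fin (m + 2)) ≠ 2) (c : F), 1 ≤ m → egl h c ∈ H) (A : GL (Fin (m + 1)) F)
    (hA : A ∈ LG F (m + 1)) : blk A ∈ H := by
  refine lg_le (H := H.comap blk) 0 (fun d => by rw [Subgroup.mem_comap, blk_dgl]; exact hD d) ?_ hA
  have hrot : ∀ k : ℕ, (pgl (finRotate (m + 1)) : GL (Fin (m + 1)) F) ^ k ∈ H.comap blk := fun k =>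
    pow_mem (by rw [Subgroup.mem_comap, blk_rot]; exact hC) k
  have hrk : ∀ (k : ℕ) (x : Fin (m + 1)), (finRotate (m + 1) ^ k) x = x + (k : Fin (m + 1)) := by
    intro k
    induction k with
    | zero => simp
    | succ k ih => intro x; rw [pow_succ', Equiv.Perm.mul_apply, ih, finRotate_succ_apply, Nat.cast_succ, add_assoc]
  -- adjacent pairs
  have adj : ∀ (i j : Fin (m + 1)), j = i + 1 → ∀ (h : i ≠ j) (c : F), egl h c ∈ H.comap blk := by
    intro i j hj h c
    have hm : 1 ≤ m := by
      rcases Nat.eq_zero_or_pos m with rfl | hm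
      · exact absurd (Fin.ext (by omega)) h
      · exact hm
    have h01 : (0 : Fin (m + 1)) ≠ 1 := by
      intro e; have := congrArg Fin.val e; simp [Fin.val_one', Nat.mod_eq_of_lt (show 1 < m + 1 by omega)] at this
    have base : egl h01 c ∈ H.comap blk := by
      rw [Subgroup.mem_comap, blk_egl]
      have h12 : (1 : Fin (m + 2)) ≠ 2 := by
        intro e; have := congrArg Fin.val e
        simp [Nat.mod_eq_of_lt (show 2 < m + 2 by omega)] at this
      have e1 : (0 : Fin (m + 1)).succ = 1 := Fin.succ_zero_eq_one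
      have e2 : (1 : Fin (m + 1)).succ = 2 := by
        obtain ⟨m', rfl⟩ : ∃ m', m = m' + 1 := ⟨m - 1, by omega⟩
        exact Fin.succ_one_eq_two
      have := hX h12 c hm
      convert this using 2 <;> first | exact e1 | exact e2
    have := mul_mem (mul_mem (hrot i.val) base) (inv_mem (hrot i.val))
    rw [← map_pow, pgl_conj_egl] at this
    convert this using 1
    subst hj
    apply Units.ext
    rw [egl_coe, egl_coe, hrk, hrk, zero_add, Fin.cast_val_eq_self, add_comm 1 i]
  intro i j hij c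
  suffices key : ∀ (k : ℕ), k < m → ∀ (i j : Fin (m + 1)), j = i + ((k + 1 : ℕ) : Fin (m + 1)) →
      ∀ (h : i ≠ j) (c : F), egl h c ∈ H.comap blk by
    have hne : (j - i).val ≠ 0 := fun e => hij (sub_eq_zero.mp (Fin.ext e)).symm
    have hlt := (j - i).isLt
    refine key ((j - i).val - 1) (by omega) i j ?_ hij c
    rw [Nat.sub_add_cancel (by omega), Fin.cast_val_eq_self, add_sub_cancel]
  intro k
  induction k with
  | zero => intro _ i j hj h c; exact adj i j (by simpa using hj) h c
  | succ k ih =>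
    intro hk i j hj h c
    set l := i + ((k + 1 : ℕ) : Fin (m + 1)) with hl
    have hcast : ∀ x : ℕ, x ≠ 0 → x < m + 1 → (x : Fin (m + 1)) ≠ 0 := fun x hx hx' e => hx (by
      have := congrArg Fin.val e
      simpa [Fin.val_natCast, Nat.mod_eq_of_lt hx'] using this)
    have hil : i ≠ l := fun e => hcast (k + 1) (by omega) (by omega) (by
      simpa [hl] using e.symm)
    have hjl : j = l + 1 := by rw [hj, hl, Nat.cast_succ, add_assoc]
    have hlj : l ≠ j := fun e => hcast 1 one_ne_zero (by omega) (by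
      rw [hjl] at e; simpa using e.symm)
    have := egl_comm hil hlj h c 1
    rw [mul_one] at this
    rw [← this]
    exact mul_mem (mul_mem (mul_mem (ih (by omega) i l rfl hil _) (adj l j hjl hlj _)) (ih (by omega) i l rfl hil _))
      (adj l j hjl hlj _)

/-- The stabiliser of the first vector. -/
theorem stabL_mem (hC : pgl (cyc m) ∈ H) (hD : ∀ d : (Kf F)ˣ, dgl 1 (liftK d) ∈ H)
    (hX : ∀ (h : (1 : Fin (m + 2)) ≠ 2) (c : F), 1 ≤ m → egl h c ∈ H)
    (hY : ∀ (h : (0 : Fin (m + 2)) ≠ 1) (c : F), egl h c ∈ H)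
    {A : GL (Fin (m + 2)) F} (hAL : A ∈ LG F (m + 2))
    (hc : (A : Matrix (Fin (m + 2)) (Fin (m + 2)) F) *ᵥ bv 0 = bv 0) : A ∈ H := by
  have hblk : ∀ A : GL (Fin (m + 2)) F, A ∈ LG F (m + 2) → (A : Matrix (Fin (m + 2)) (Fin (m + 2)) F) *ᵥ bv 0 = bv 0 →
      bv 0 ᵥ* (A : Matrix (Fin (m + 2)) (Fin (m + 2)) F) = bv 0 → A ∈ H := fun A h0 h1 h2 => by
    obtain ⟨B, rfl⟩ := exists_blk h1 h2
    exact blkL_mem hC hD hX B (blk_LG h0)
  -- the elements of the first row
  have hrow : ∀ (j : Fin (m + 2)) (h : (0 : Fin (m + 2)) ≠ j) (c : F), egl h c ∈ H := by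
    intro j h c
    have h01 : (0 : Fin (m + 2)) ≠ 1 := Fin.zero_ne_one
    have hs : (pgl (Equiv.swap 1 j) : GL (Fin (m + 2)) F) ∈ H := by
      refine hblk _ (pg (Equiv.swap 1 j) : LG F (m + 2)).2 (by rw [pgl_bv, Equiv.swap_apply_of_ne_of_ne h01 h]) ?_
      rw [← mulVec_transpose, pgl_transpose, pgl_bv, Equiv.swap_inv, Equiv.swap_apply_of_ne_of_ne h01 h]
    have := mul_mem (mul_mem hs (hY h01 c)) (inv_mem hs)
    rw [pgl_conj_egl] at this
    convert this using 1
    apply Units.ext
    rw [egl_coe, egl_coe, Equiv.swap_apply_of_ne_of_ne h01 h, Equiv.swap_apply_left]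
  have hrk : ∀ (s : Finset (Fin (m + 2))) (w : Fin (m + 2) → F), (∀ i, i ∉ s → w i = 0) →
      ∀ h : w ⬝ᵥ bv 0 = 0, rk1 (bv 0) w h ∈ H := by
    intro s
    induction s using Finset.induction_on with
    | empty =>
      intro w hw h
      have hw0 : w = 0 := funext fun i => hw i (by simp)
      have : rk1 (bv 0) w h = 1 := Units.ext (by rw [rk1_coe, hw0, vecMulVec_zero, add_zero, Units.val_one])
      rw [this]; exact one_mem _
    | @insert j t hj ih =>
      intro w hw h
      by_cases hj0 : j = 0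
      · refine ih w (fun i hi => ?_) h
        by_cases e : i = j
        · rw [e, hj0]; simpa using h
        · exact hw i (by simp [e, hi])
      · have h1 : (Function.update w j 0) ⬝ᵥ bv 0 = 0 := by
          simpa [Function.update_of_ne (Ne.symm hj0)] using h
        have h2 : (Pi.single j (w j) : Fin (m + 2) → F) ⬝ᵥ bv 0 = 0 := by simp [Ne.symm hj0]
        have e := rk1_mul_right (bv 0) (Function.update w j 0) (Pi.single j (w j)) h1 h2
        have hsum : Function.update w j 0 + Pi.single j (w j) = w := by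
          funext i; by_cases hi : i = j
          · subst hi; simp
          · simp [hi]
        have e2 : rk1 (bv 0) (Pi.single j (w j)) h2 = egl (Ne.symm hj0) (w j) := by
          apply Units.ext
          rw [rk1_coe, egl_coe, Matrix.transvection]
          congr 1
          ext a b
          simp [vecMulVec_apply, Pi.single_apply, Matrix.single_apply, eq_comm, ite_and]
          split_ifs <;> rfl
        simp only [hsum] at e
        rw [← e, e2]
        refine mul_mem (ih _ (fun i hi => ?_) h1) (hrow j _ _)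
        by_cases e : i = j
        · subst e; simp
        · rw [Function.update_of_ne e]; exact hw i (by simp [e, hi])
  set A' : Matrix (Fin (m + 2)) (Fin (m + 2)) F :=
    ((A⁻¹ : GL (Fin (m + 2)) F) : Matrix (Fin (m + 2)) (Fin (m + 2)) F) with hA'
  have hc' : A' *ᵥ bv 0 = bv 0 := by
    conv_lhs => rw [← hc, mulVec_mulVec, ← Units.val_mul, inv_mul_cancel, Units.val_one, one_mulVec]
  set r := bv 0 ᵥ* (A : Matrix (Fin (m + 2)) (Fin (m + 2)) F) with hrdef
  set w := (r - bv 0) ᵥ* A' with hwdef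
  have hw : w ⬝ᵥ bv 0 = 0 := by
    rw [hwdef, ← dotProduct_mulVec, hc', sub_dotProduct, hrdef, ← dotProduct_mulVec, hc, sub_self]
  have hA : A = rk1 (bv 0) w hw * ((rk1 (bv 0) w hw)⁻¹ * A) := by rw [mul_inv_cancel_left]
  rw [hA]
  refine mul_mem (hrk Finset.univ w (by simp) hw) (hblk _ (mul_mem (inv_mem (rg (bv 0) w hw : LG F (m + 2)).2) hAL) ?_ ?_)
  · rw [Units.val_mul, ← mulVec_mulVec, hc]
    show (1 - vecMulVec (bv 0) w) *ᵥ bv 0 = bv 0
    rw [sub_mulVec, one_mulVec, vecMulVec_mulVec, hw]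
    simp
  · rw [Units.val_mul, ← vecMul_vecMul]
    show (bv 0 ᵥ* (1 - vecMulVec (bv 0) w)) ᵥ* _ = bv 0
    rw [Matrix.vecMul_sub, vecMul_one, vecMul_vecMulVec, single_one_dotProduct, show bv (0 : Fin (m + 2)) 0 = (1 : F) from Pi.single_eq_same _ _, one_smul,
      sub_vecMul, ← hrdef, hwdef, vecMul_vecMul, ← Units.val_mul, inv_mul_cancel, Units.val_one, vecMul_one,
      sub_sub_cancel]

end Cfsg.Agent.KSG55.Herm
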