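import Cfsg.Agent.KSG55.Herm.Rels
import Cfsg.Agent.KSG55.Herm.Stab

set_option autoImplicit false
set_option linter.unusedSectionVars false

/-! The Levi factor and the root elements inside a group satisfying the relations. -/

namespace Cfsg.Agent.KSG55.Herm

open Matrix Cfsg.Agent.KSG55.Sp Cfsg.Agent.KSG55.Lin

/-- The data: two homomorphisms. -/
structure Glue (F : Type*) [Field F] [StarRing F] (m : ℕ) (G : Type*) [Group G] where
  θ : SpecialLinearGroup (Fin (m + 2)) F →* G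
  κ : SpecialLinearGroup (Fin 2) (Kf F) →* G
  ρ : Fˣ
  hρ : star (ρ : F) ≠ (ρ : F)
  gen : ∀ x : Fˣ, x ∈ Submonoid.powers ρ
  genK : ∀ x : (Kf F)ˣ, x ∈ Submonoid.powers (normK ρ)
  rels : Rels (H := G) ⇑θ ⇑κ ρ hρ

variable {F : Type*} [Field F] [StarRing F] {m : ℕ}

local notation "GLn" => GL (Fin (m + 2)) F
local notation "LGn" => LG F (m + 2)
local notation "Vn" => Fin (m + 2) → F
local notation "Mn" => Matrix (Fin (m + 2)) (Fin (m + 2)) F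
local notation "K" => Kf F

theorem mH_one : mH (1 : Kˣ) = (1 : SpecialLinearGroup (Fin 2) K) := mHHom.map_one

namespace Glue

variable {G : Type*} [Group G] (D : Glue F m G)

theorem kH_mul (d e : Kˣ) : D.κ (mH (d * e)) = D.κ (mH d) * D.κ (mH e) := by
  rw [← map_mul]; congr 1; exact mHHom.map_mul d e

theorem conj_kH (d : Kˣ) (B : SpecialLinearGroup (Fin (m + 2)) F) :
    D.κ (mH d) * D.θ B * (D.κ (mH d))⁻¹ = D.θ (conjD d B) := by
  obtain ⟨k, rfl⟩ := D.genK d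
  show D.κ (mH (normK D.ρ ^ k)) * D.θ B * (D.κ (mH (normK D.ρ ^ k)))⁻¹ = D.θ (conjD (normK D.ρ ^ k) B)
  induction k generalizing B with
  | zero =>
    have e2 : conjD (normK D.ρ ^ 0) B = B := ofSL_inj (by
      rw [ofSL_conjD, pow_zero, map_one, one_mul, inv_one, mul_one])
    rw [e2, pow_zero, mH_one, map_one, one_mul, inv_one, mul_one]
  | succ k ih =>
    rw [pow_succ', D.kH_mul, show D.κ (mH (normK D.ρ)) * D.κ (mH (normK D.ρ ^ k)) * D.θ B *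
      (D.κ (mH (normK D.ρ)) * D.κ (mH (normK D.ρ ^ k)))⁻¹ =
      D.κ (mH (normK D.ρ)) * (D.κ (mH (normK D.ρ ^ k)) * D.θ B * (D.κ (mH (normK D.ρ ^ k)))⁻¹) *
        (D.κ (mH (normK D.ρ)))⁻¹ by group, ih, D.rels.conjH]
    congr 1
    apply ofSL_inj
    rw [ofSL_conjD, ofSL_conjD, ofSL_conjD, map_mul]
    group

/-- The Levi subgroup as a homomorphism. -/
noncomputable def Γ : LGn →* G where
  toFun := γe ⇑D.θ ⇑D.κ
  map_one' := by
    have e : toSL (1 : LGn) = 1 := ofSL_inj (by rw [ofSL_toSL, map_one, map_one, map_one, inv_one, mul_one])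
    show D.θ _ * D.κ _ = 1
    rw [e, map_one, map_one, one_mul, mH_one, map_one]
  map_mul' A B := by
    show D.θ _ * D.κ _ = D.θ _ * D.κ _ * (D.θ _ * D.κ _)
    have e : toSL (A * B) = toSL A * conjD (detK A) (toSL B) := by
      apply ofSL_inj
      rw [ofSL_toSL, map_mul (ofSL (F := F) (m := m)), ofSL_conjD, ofSL_toSL, ofSL_toSL, map_mul, map_mul]
      group
    rw [e, map_mul D.θ, ← D.conj_kH, map_mul detK, D.kH_mul]
    group

theorem Γ_apply (A : LGn) : D.Γ A = γe ⇑D.θ ⇑D.κ A := rfl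

theorem Γ_ofSL (B : SpecialLinearGroup (Fin (m + 2)) F) : D.Γ (ofSL B) = D.θ B := by
  rw [Γ_apply, γe, detK_ofSL, show toSL (ofSL B) = B from ofSL_inj (by
    rw [ofSL_toSL, detK_ofSL, map_one, inv_one, mul_one]), mH_one, map_one, mul_one]

theorem Γ_dK0 (d : Kˣ) : D.Γ (dK 0 d) = D.κ (mH d) := by
  rw [Γ_apply, γe, detK_dK, show toSL (dK (0 : Fin (m + 2)) d) = 1 from ofSL_inj (by
    rw [ofSL_toSL, detK_dK, mul_inv_cancel, map_one]), map_one, one_mul]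

theorem Γ_conj (A B : LGn) : D.Γ A * D.Γ B * (D.Γ A)⁻¹ = D.Γ (A * B * A⁻¹) := by
  rw [map_mul, map_mul, map_inv]

theorem kU_add (s t : K) : D.κ (mU (s + t)) = D.κ (mU s) * D.κ (mU t) := by rw [← map_mul, mU_mul]

theorem kU_neg (t : K) : D.κ (mU (-t)) = (D.κ (mU t))⁻¹ :=
  eq_inv_of_mul_eq_one_left (by rw [← D.kU_add, neg_add_cancel, mU_zero, map_one])

theorem kH_conj_U (d : Kˣ) (t : K) : D.κ (mH d) * D.κ (mU t) * (D.κ (mH d))⁻¹ = D.κ (mU ((d : K) ^ 2 * t)) := by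
  rw [← map_inv, ← map_mul, ← map_mul, mH_conj]

/-- The preimage of a centralizer among all invertible matrices. -/
noncomputable def cent (g : G) : Subgroup GLn :=
  ((Subgroup.centralizer {g}).comap D.Γ).map (LG F (m + 2)).subtype

theorem mem_cent {g : G} {A : LGn} (h : Commute (D.Γ A) g) : (A : GLn) ∈ D.cent g :=
  ⟨A, Subgroup.mem_centralizer_singleton_iff.mpr h.eq, rfl⟩

theorem of_cent {g : G} {A : LGn} (h : (A : GLn) ∈ D.cent g) : Commute (D.Γ A) g := by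
  obtain ⟨B, hB, e⟩ := h
  obtain rfl : B = A := Subtype.ext e
  exact Subgroup.mem_centralizer_singleton_iff.mp hB

variable [Finite F]

theorem exists_dd {z : Fˣ} : ∃ k : ℕ, D.ρ ^ k = z := D.gen z

/-- Scaling inside a centralizer. -/
theorem scale_mem {g : G} (hd : ∀ d : Kˣ, Commute (D.Γ (dK 1 d)) g)
    {i j : Fin (m + 2)} (h : i ≠ j) (h1 : i = 1 ∨ j = 1) {c₀ : F}
    (hb : Commute (γe ⇑D.θ ⇑D.κ (eg h c₀)) g) (t : K) : Commute (D.Γ (eg h ((t : F) * c₀))) g := by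
  rcases eq_or_ne t 0 with rfl | ht
  · rw [Subfield.coe_zero, zero_mul, eg_zero, map_one]; exact Commute.one_left g
  set d : Kˣ := Units.mk0 t ht
  have hb' : Commute (D.Γ (eg h c₀)) g := hb
  rcases h1 with rfl | rfl
  · have e : eg h ((t : F) * c₀) = dK 1 d * eg h c₀ * (dK 1 d)⁻¹ := Subtype.ext (by
      show egl h _ = dgl 1 (liftK d) * egl h c₀ * (dgl 1 (liftK d))⁻¹
      rw [dgl_conj_egl, if_pos rfl, if_neg h.symm, mul_one]; rfl)
    rw [e, map_mul, map_mul, map_inv]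
    exact ((hd d).mul_left hb').mul_left (hd d).inv_left
  · have e : eg h ((t : F) * c₀) = dK 1 d⁻¹ * eg h c₀ * (dK 1 d⁻¹)⁻¹ := Subtype.ext (by
      show egl h _ = dgl 1 (liftK d⁻¹) * egl h c₀ * (dgl 1 (liftK d⁻¹))⁻¹
      rw [dgl_conj_egl, if_neg h, if_pos rfl, one_mul, ← map_inv, inv_inv, mul_comm]; rfl)
    rw [e, map_mul, map_mul, map_inv D.Γ (dK 1 d⁻¹)]
    exact ((hd d⁻¹).mul_left hb').mul_left (hd d⁻¹).inv_left

theorem dK1_comm {g : G} (h : Commute (γe ⇑D.θ ⇑D.κ (dK 1 (normK D.ρ))) g) (d : Kˣ) :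
    Commute (D.Γ (dK 1 d)) g := by
  obtain ⟨k, rfl⟩ := D.genK d
  show Commute (D.Γ (dK 1 (normK D.ρ ^ k))) g
  rw [map_pow, map_pow]
  exact Commute.pow_left h k

theorem eg_comm {g : G} (hd : ∀ d : Kˣ, Commute (D.Γ (dK 1 d)) g) {i j : Fin (m + 2)} (h : i ≠ j)
    (h1 : i = 1 ∨ j = 1) (hb : ∀ r, Commute (γe ⇑D.θ ⇑D.κ (eg h (cs D.ρ r : F))) g) (c : F) :
    Commute (D.Γ (eg h c)) g := by
  rw [← p_eq D.hρ c, ← eg_mul, map_mul]
  refine (Commute.mul_left ?_ (D.scale_mem hd h h1 (hb 1) _))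
  have := D.scale_mem hd h h1 (hb 0) (p1 (D.ρ : F) D.hρ c)
  simpa [cs] using this

theorem comm_U1 {A : LGn} (hA : LM A *ᵥ bv 0 = bv 0) : Commute (D.Γ A) (D.κ (mU 1)) := by
  have hd := D.dK1_comm D.rels.uD
  refine D.of_cent (stabL_mem (H := D.cent (D.κ (mU 1))) ?_ (fun d => ?_) ?_ ?_ A.2 hA)
  · exact D.mem_cent (A := pg (cyc m)) D.rels.uC
  · exact D.mem_cent (A := dK 1 d) (hd d)
  · exact fun h c hm => D.mem_cent (A := eg h c) (D.eg_comm hd h (Or.inl rfl) (D.rels.uX' hm h) c)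
  · exact fun h c => D.mem_cent (A := eg h c) (D.eg_comm hd h (Or.inr rfl) D.rels.uX c)

theorem comm_U {A : LGn} (hA : LM A *ᵥ bv 0 = bv 0) (t : K) : Commute (D.Γ A) (D.κ (mU t)) := by
  induction t using sq_induction with
  | h0 => rw [mU_zero, map_one]; exact Commute.one_right _
  | hadd x y hx hy => rw [D.kU_add]; exact hx.mul_right hy
  | hneg x hx => rw [D.kU_neg]; exact hx.inv_right
  | hsq y =>
    set d : LGn := dK 0 y
    have e0 : ∀ z : Kˣ, LM (dK 0 z : LGn) *ᵥ bv 0 = ((z : K) : F) • bv 0 := fun z => by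
      show ((dgl 0 (liftK z) : GLn) : Mn) *ᵥ bv 0 = _
      rw [Sp.Glue.dgl_bv, if_pos rfl, liftK_coe]
    have hA' : LM (d⁻¹ * A * d) *ᵥ bv 0 = bv 0 := by
      rw [LM_mul, LM_mul, ← mulVec_mulVec, ← mulVec_mulVec, e0, mulVec_smul, hA, mulVec_smul,
        show d⁻¹ = dK 0 y⁻¹ by rw [map_inv], e0, smul_smul, ← Subfield.coe_mul]
      simp
    have := (D.comm_U1 hA').map (MulAut.conj (D.Γ d)).toMonoidHom
    simp only [MulEquiv.coe_toMonoidHom, MulAut.conj_apply] at this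
    rw [Γ_conj, show d * (d⁻¹ * A * d) * d⁻¹ = A by group, D.Γ_dK0, D.kH_conj_U, mul_one] at this
    exact this

theorem comm_T {A : LGn} (hc : LM A *ᵥ bv 0 = bv 0) (hr : bv 0 ᵥ* LM A = bv 0) :
    Commute (D.Γ A) (D.κ mT) := by
  obtain ⟨B, hB⟩ := exists_blk (A := (A : GLn)) hc hr
  have hd := D.dK1_comm D.rels.tD
  refine D.of_cent (hB ▸ blkL_mem (H := D.cent (D.κ mT)) ?_ (fun d => ?_) ?_ B (blk_LG (hB ▸ A.2)))
  · exact D.mem_cent (A := pg (cyc m)) D.rels.tC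
  · exact D.mem_cent (A := dK 1 d) (hd d)
  · exact fun h c hm => D.mem_cent (A := eg h c) (D.eg_comm hd h (Or.inl rfl) (D.rels.tX' hm h) c)

theorem Γ_dd_U (z : Fˣ) (t : K) :
    D.Γ (dd 0 1 z) * D.κ (mU t) * (D.Γ (dd 0 1 z))⁻¹ = D.κ (mU (((normK z : Kˣ) : K) * t)) := by
  have base : ∀ t, D.Γ (dd 0 1 D.ρ) * D.κ (mU t) * (D.Γ (dd 0 1 D.ρ))⁻¹ =
      D.κ (mU (((normK D.ρ : Kˣ) : K) * t)) := by
    intro t
    induction t using sq_induction with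
    | h0 => simp [mU_zero]
    | hadd x y hx hy => rw [mul_add, D.kU_add, D.kU_add, ← hx, ← hy]; group
    | hneg x hx => rw [mul_neg, D.kU_neg, D.kU_neg, ← hx]; group
    | hsq y =>
      have hc : Commute (D.Γ (dd 0 1 D.ρ)) (D.κ (mH y)) := by
        rw [← D.Γ_dK0]
        refine Commute.map (Subtype.ext ?_) D.Γ
        show dgl 0 D.ρ * dgl 1 D.ρ⁻¹ * dgl 0 (liftK y) = dgl 0 (liftK y) * (dgl 0 D.ρ * dgl 1 D.ρ⁻¹)
        exact ((dgl_commute 0 0 D.ρ (liftK y)).mul_left (dgl_commute 1 0 D.ρ⁻¹ (liftK y))).eq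
      have e : D.κ (mU ((y : K) ^ 2)) = D.κ (mH y) * D.κ (mU 1) * (D.κ (mH y))⁻¹ := by
        rw [D.kH_conj_U, mul_one]
      rw [e, show D.Γ (dd 0 1 D.ρ) * (D.κ (mH y) * D.κ (mU 1) * (D.κ (mH y))⁻¹) * (D.Γ (dd 0 1 D.ρ))⁻¹ =
        D.Γ (dd 0 1 D.ρ) * D.κ (mH y) * D.κ (mU 1) * (D.Γ (dd 0 1 D.ρ) * D.κ (mH y))⁻¹ by group, hc.eq,
        show D.κ (mH y) * D.Γ (dd 0 1 D.ρ) * D.κ (mU 1) * (D.κ (mH y) * D.Γ (dd 0 1 D.ρ))⁻¹ =
        D.κ (mH y) * (D.Γ (dd 0 1 D.ρ) * D.κ (mU 1) * (D.Γ (dd 0 1 D.ρ))⁻¹) * (D.κ (mH y))⁻¹ by group,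
        Γ_apply, D.rels.uS, D.kH_conj_U, mul_comm]
  obtain ⟨k, rfl⟩ := D.gen z
  show D.Γ (dd 0 1 (D.ρ ^ k)) * D.κ (mU t) * (D.Γ (dd 0 1 (D.ρ ^ k)))⁻¹ = D.κ (mU (((normK (D.ρ ^ k) : Kˣ) : K) * t))
  induction k generalizing t with
  | zero => simp
  | succ k ih =>
    rw [pow_succ', map_mul, map_mul, show D.Γ (dd 0 1 D.ρ) * D.Γ (dd 0 1 (D.ρ ^ k)) * D.κ (mU t) *
      (D.Γ (dd 0 1 D.ρ) * D.Γ (dd 0 1 (D.ρ ^ k)))⁻¹ = D.Γ (dd 0 1 D.ρ) * (D.Γ (dd 0 1 (D.ρ ^ k)) * D.κ (mU t) *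
      (D.Γ (dd 0 1 (D.ρ ^ k)))⁻¹) * (D.Γ (dd 0 1 D.ρ))⁻¹ by group, ih, base, map_mul, Units.val_mul, mul_assoc]

open scoped Classical in
/-- The root element of a vector. -/
noncomputable def q (v : Vn) (t : K) : G :=
  if hv : v = 0 then 1 else D.Γ (exists_colL0 hv).choose * D.κ (mU t) * (D.Γ (exists_colL0 hv).choose)⁻¹

theorem q_zero (t : K) : D.q 0 t = 1 := by rw [q, dif_pos rfl]

theorem q_col {A : LGn} {v : Vn} (hA : LM A *ᵥ bv 0 = v) (t : K) :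
    D.q v t = D.Γ A * D.κ (mU t) * (D.Γ A)⁻¹ := by
  have hv : v ≠ 0 := by
    intro h
    have := congrArg (fun x => LM A⁻¹ *ᵥ x) (hA.trans h)
    simp only [mulVec_mulVec, mulVec_zero, LM_inv_mul, one_mulVec] at this
    simpa [bv] using congrFun this 0
  rw [q, dif_neg hv]
  set B := (exists_colL0 hv).choose
  have hB : LM B *ᵥ bv 0 = v := (exists_colL0 hv).choose_spec
  have hC : LM (B⁻¹ * A) *ᵥ bv 0 = bv 0 := by
    rw [LM_mul, ← mulVec_mulVec, hA, ← hB, mulVec_mulVec, LM_inv_mul, one_mulVec]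
  rw [show D.Γ A = D.Γ B * D.Γ (B⁻¹ * A) by rw [← map_mul, mul_inv_cancel_left],
    show D.Γ B * D.Γ (B⁻¹ * A) * D.κ (mU t) * (D.Γ B * D.Γ (B⁻¹ * A))⁻¹ =
      D.Γ B * (D.Γ (B⁻¹ * A) * D.κ (mU t) * (D.Γ (B⁻¹ * A))⁻¹) * (D.Γ B)⁻¹ by group,
    (D.comm_U hC t).eq, mul_inv_cancel_right]

theorem q_bv0 (t : K) : D.q (bv 0) t = D.κ (mU t) := by
  rw [D.q_col (A := 1) (by rw [LM_one, one_mulVec]), map_one, one_mul, inv_one, mul_one]

theorem q_conj (A : LGn) (v : Vn) (t : K) : D.Γ A * D.q v t * (D.Γ A)⁻¹ = D.q (LM A *ᵥ v) t := by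
  rcases eq_or_ne v 0 with rfl | hv
  · simp [q_zero]
  obtain ⟨B, hB⟩ := exists_colL0 hv
  rw [D.q_col hB, D.q_col (A := A * B) (v := LM A *ᵥ v) (by rw [LM_mul, ← mulVec_mulVec, hB]), map_mul]
  group

theorem dd_bv0 (c : Fˣ) : LM (dd 0 1 c : LGn) *ᵥ bv 0 = (c : F) • bv 0 := by
  show ((dgl 0 c * dgl 1 c⁻¹ : GLn) : Mn) *ᵥ bv 0 = _
  rw [Units.val_mul, ← mulVec_mulVec, dgl1_bv0, Sp.Glue.dgl_bv, if_pos rfl]

theorem dd_bv1 (c : Fˣ) : LM (dd 0 1 c : LGn) *ᵥ bv 1 = ((c⁻¹ : Fˣ) : F) • bv 1 := by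
  show ((dgl 0 c * dgl 1 c⁻¹ : GLn) : Mn) *ᵥ bv 1 = _
  rw [Units.val_mul, ← mulVec_mulVec, Sp.Glue.dgl_bv, if_pos rfl, mulVec_smul, Sp.Glue.dgl_bv,
    if_neg (Fin.zero_ne_one (n := m)).symm]

theorem q_scale (c : F) (v : Vn) (t : K) : D.q (c • v) t = D.q v (nK c * t) := by
  rcases eq_or_ne v 0 with rfl | hv
  · simp [q_zero]
  obtain ⟨B, hB⟩ := exists_colL0 hv
  rcases eq_or_ne c 0 with rfl | hc
  · rw [zero_smul, q_zero, D.q_col hB]
    simp [mU_zero, nK_zero]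
  have hcol : LM (B * dd 0 1 (Units.mk0 c hc)) *ᵥ bv 0 = c • v := by
    rw [LM_mul, ← mulVec_mulVec, dd_bv0, mulVec_smul, hB]; rfl
  rw [D.q_col hcol, D.q_col hB, map_mul,
    show D.Γ B * D.Γ (dd 0 1 (Units.mk0 c hc)) * D.κ (mU t) * (D.Γ B * D.Γ (dd 0 1 (Units.mk0 c hc)))⁻¹ =
      D.Γ B * (D.Γ (dd 0 1 (Units.mk0 c hc)) * D.κ (mU t) * (D.Γ (dd 0 1 (Units.mk0 c hc)))⁻¹) * (D.Γ B)⁻¹ by group,
    D.Γ_dd_U, ← nK_units]
  rfl

theorem q_add (v : Vn) (s t : K) : D.q v (s + t) = D.q v s * D.q v t := by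
  rcases eq_or_ne v 0 with rfl | hv
  · simp [q_zero]
  obtain ⟨B, hB⟩ := exists_colL0 hv
  rw [D.q_col hB, D.q_col hB, D.q_col hB, D.kU_add]; group

theorem q_at0 (v : Vn) : D.q v 0 = 1 := by
  have := D.q_add v 0 0
  rw [add_zero] at this
  exact left_eq_mul.mp this

theorem q_neg (v : Vn) (t : K) : D.q v (-t) = (D.q v t)⁻¹ :=
  eq_inv_of_mul_eq_one_left (by rw [← D.q_add, neg_add_cancel, D.q_at0])

theorem dK_bv (i j : Fin (m + 2)) (d : Kˣ) :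
    LM (dK i d : LGn) *ᵥ bv j = if j = i then ((d : K) : F) • bv j else bv j :=
  Sp.Glue.dgl_bv i j (liftK d)

theorem sw01_bv : LM (sw01 : LGn) *ᵥ bv 0 = bv 1 := by
  show ((pgl (Equiv.swap 0 1) : GLn) : Mn) *ᵥ bv 0 = _
  rw [pgl_bv, Equiv.swap_apply_left]

theorem q_comm (v w : Vn) (s t : K) : Commute (D.q v s) (D.q w t) := by
  have base : ∀ s t, Commute (D.q (bv 0) s) (D.q (bv 1) t) := by
    have h11 : Commute (D.q (bv 0) 1) (D.q (bv 1) 1) := by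
      rw [q_bv0, D.q_col sw01_bv]
      exact D.rels.uu
    intro s t
    induction s using sq_induction with
    | h0 => rw [q_at0]; exact Commute.one_left _
    | hadd x y hx hy => rw [q_add]; exact hx.mul_left hy
    | hneg x hx => rw [q_neg]; exact hx.inv_left
    | hsq y =>
      induction t using sq_induction with
      | h0 => rw [q_at0]; exact Commute.one_right _
      | hadd x y' hx hy => rw [q_add]; exact hx.mul_right hy
      | hneg x hx => rw [q_neg]; exact hx.inv_right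
      | hsq z =>
        have := h11.map (MulAut.conj (D.Γ (dK 0 y * dK 1 z))).toMonoidHom
        simp only [MulEquiv.coe_toMonoidHom, MulAut.conj_apply, q_conj, LM_mul, ← mulVec_mulVec, dK_bv,
          if_neg Fin.zero_ne_one, if_neg (Fin.zero_ne_one (n := m)).symm, if_pos, mulVec_smul, q_scale, nK_coeK,
          mul_one] at this
        exact this
  rcases eq_or_ne v 0 with rfl | hv
  · rw [q_zero]; exact Commute.one_left _
  by_cases h : ∃ c : F, w = c • v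
  · obtain ⟨c, rfl⟩ := h
    rw [q_scale]
    show D.q v s * D.q v _ = D.q v _ * D.q v s
    rw [← q_add, ← q_add, add_comm]
  push Not at h
  obtain ⟨A, z, hA0, hA1⟩ := exists_pairL hv h
  have hz : nK (z : F) ≠ 0 := by rw [nK_units]; exact Units.ne_zero _
  have := (base s (t / nK (z : F))).map (MulAut.conj (D.Γ A)).toMonoidHom
  simp only [MulEquiv.coe_toMonoidHom, MulAut.conj_apply, q_conj, hA0, hA1, q_scale, mul_div_cancel₀ _ hz] at this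
  exact this

end Glue

end Cfsg.Agent.KSG55.Herm
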