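import Cfsg.Agent.KSG55.Herm.Main
import Cfsg.Agent.KSG55.Pres.All
import Cfsg.Agent.Lib.LinearGroup.SmallPSL

set_option autoImplicit false
set_option linter.style.haveILetI false

/-! Presentations of the four dimensional unitary groups on six, or four, generators. -/

namespace Cfsg.Agent.KSG55.Herm

open Matrix Cfsg.Agent.KSG55.Lin Cfsg.Agent.KSG55.Pres
open Cfsg.Agent.Unitary (conjHom conjHom_apply)

/-- Two generators of the special linear groups of dimension two over the fields with two and four elements. -/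
theorem sl_two_small {K : Type*} [Field K] [Fintype K] (hK : Fintype.card K = 4) :
    ∃ g : Fin 2 → SpecialLinearGroup (Fin 2) K, PresOn g 4 := by
  have hc : Nat.card K = 4 := by rw [Nat.card_eq_fintype_card, hK]
  have h := Cfsg.Agent.LinearGroup.psl_two_small (F := K) (Or.inr hc)
  rw [hc] at h
  obtain ⟨e⟩ := h
  have hbot : Subgroup.center (SpecialLinearGroup (Fin 2) K) = ⊥ := by
    rw [← Subgroup.card_eq_one, Cfsg.Agent.LinearGroup.card_center_SL, hc]; decide
  let e' : SpecialLinearGroup (Fin 2) K ≃* alternatingGroup (Fin 5) :=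
    (QuotientGroup.quotientBot.symm.trans (QuotientGroup.quotientMulEquivOfEq hbot.symm)).trans e
  obtain ⟨-, g, hg⟩ := small_cases 5 (by norm_num) (by norm_num)
  exact ⟨_, (hg.map e'.symm).mono (by norm_num)⟩

theorem sl_two_bit {K : Type*} [Field K] [Fintype K] (hK : Fintype.card K = 2) :
    ∃ g : Fin 2 → SpecialLinearGroup (Fin 2) K, PresOn g 3 := by
  obtain ⟨e⟩ := Cfsg.Agent.LinearGroup.psl_two_two (F := K) (by rw [Nat.card_eq_fintype_card, hK])
  obtain ⟨⟨g, hg⟩, -⟩ := small_cases 3 (by norm_num) (by norm_num)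
  exact ⟨_, (hg.map e.symm).mono (by norm_num)⟩

variable {F : Type*} [Field F] [Fintype F] {q : ℕ}

/-- Dimension four. -/
theorem su_four (hF : Fintype.card F = q ^ 2) : ∃ g : Fin 6 → Cfsg.SU 4 F q, PresOn g 32 := by
  classical
  letI := starRingOf hF
  have hst : ∀ x : F, star x = x ^ q := fun x => conjHom_apply hF x
  obtain ⟨⟨e⟩, htv⟩ := exists_equiv_SU (n := 4) (l := 0 + 2) hF hst (by norm_num) (by norm_num)
  obtain ⟨ρ, hρg⟩ := IsCyclic.exists_monoid_generator (α := Fˣ)
  have hord : orderOf ρ = q ^ 2 - 1 := by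
    rw [orderOf_eq_card_of_forall_mem_zpowers fun x => mem_powers_iff_mem_zpowers.mp (hρg x), Nat.card_units,
      Nat.card_eq_fintype_card, hF]
  have hρ : star (ρ : F) ≠ (ρ : F) := by
    intro e
    have hq := Unitary.two_le_q hF
    have h1 : ρ ^ (q - 1) = 1 := Units.ext (by
      rw [Units.val_pow_eq_pow_val, Unitary.pow_q_sub_one hF ρ.ne_zero, ← hst, e, div_self ρ.ne_zero,
        Units.val_one])
    have h2 := Nat.le_of_dvd (by omega) (orderOf_dvd_of_pow_eq_one h1)
    rw [hord] at h2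
    have h3 : 2 * q ≤ q ^ 2 := by rw [sq]; exact Nat.mul_le_mul_right q hq
    omega
  have genK : ∀ x : (Kf F)ˣ, x ∈ Submonoid.powers (normK ρ) := by
    intro x
    have hx : ((x : Kf F) : F) ^ q = ((x : Kf F) : F) := by rw [← hst]; exact star_coeK _
    obtain ⟨a, ha⟩ := Unitary.exists_norm_eq hF hx
    have ha0 : a ≠ 0 := by
      rintro rfl
      rw [zero_pow (Nat.succ_ne_zero q)] at ha
      exact x.ne_zero (Subtype.ext ha.symm)
    obtain ⟨k, hk⟩ := hρg (Units.mk0 a ha0)
    refine ⟨k, ?_⟩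
    show normK ρ ^ k = x
    rw [← map_pow, show ρ ^ k = Units.mk0 a ha0 from hk]
    refine Units.ext (Subtype.ext ?_)
    rw [normK_coe, Units.val_mk0, hst, ← pow_succ', ha]
  haveI : Fintype (Kf F) := Fintype.ofFinite _
  obtain ⟨a, ha⟩ := IsCyclic.exists_generator (α := Fˣ)
  have hθ := Sp.sl2_seven (F := F) ha
  have h2 := Sp.sl2_seven (F := Kf F) (a := normK ρ) fun x => mem_powers_iff_mem_zpowers.mp (genK x)
  have h := presOn_glue_filter (m := 0) hρ hρg genK htv hθ h2 (B := 18) fun zθ zκ _ _ => by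
    refine (List.length_filter_le _ _).trans ?_
    simp [relPairs_length_zero]
  exact ⟨_, h.map e⟩

/-- Dimension four over the field with four elements. -/
theorem su_four_two (hF : Fintype.card F = q ^ 2) (hq2 : q = 2) : ∃ g : Fin 4 → Cfsg.SU 4 F q, PresOn g 20 := by
  classical
  letI := starRingOf hF
  have hst : ∀ x : F, star x = x ^ q := fun x => conjHom_apply hF x
  obtain ⟨⟨e⟩, htv⟩ := exists_equiv_SU (n := 4) (l := 0 + 2) hF hst (by norm_num) (by norm_num)
  obtain ⟨ρ, hρg⟩ := IsCyclic.exists_monoid_generator (α := Fˣ)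
  have hord : orderOf ρ = q ^ 2 - 1 := by
    rw [orderOf_eq_card_of_forall_mem_zpowers fun x => mem_powers_iff_mem_zpowers.mp (hρg x), Nat.card_units,
      Nat.card_eq_fintype_card, hF]
  have hρ : star (ρ : F) ≠ (ρ : F) := by
    intro e
    have hq := Unitary.two_le_q hF
    have h1 : ρ ^ (q - 1) = 1 := Units.ext (by
      rw [Units.val_pow_eq_pow_val, Unitary.pow_q_sub_one hF ρ.ne_zero, ← hst, e, div_self ρ.ne_zero,
        Units.val_one])
    have h2 := Nat.le_of_dvd (by omega) (orderOf_dvd_of_pow_eq_one h1)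
    rw [hord] at h2
    have h3 : 2 * q ≤ q ^ 2 := by rw [sq]; exact Nat.mul_le_mul_right q hq
    omega
  have genK : ∀ x : (Kf F)ˣ, x ∈ Submonoid.powers (normK ρ) := by
    intro x
    have hx : ((x : Kf F) : F) ^ q = ((x : Kf F) : F) := by rw [← hst]; exact star_coeK _
    obtain ⟨a, ha⟩ := Unitary.exists_norm_eq hF hx
    have ha0 : a ≠ 0 := by
      rintro rfl
      rw [zero_pow (Nat.succ_ne_zero q)] at ha
      exact x.ne_zero (Subtype.ext ha.symm)
    obtain ⟨k, hk⟩ := hρg (Units.mk0 a ha0)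
    refine ⟨k, ?_⟩
    show normK ρ ^ k = x
    rw [← map_pow, show ρ ^ k = Units.mk0 a ha0 from hk]
    refine Units.ext (Subtype.ext ?_)
    rw [normK_coe, Units.val_mk0, hst, ← pow_succ', ha]
  haveI : Fintype (Kf F) := Fintype.ofFinite _
  have hcK : Fintype.card (Kf F) = 2 := by
    rw [← Nat.card_eq_fintype_card, ← hq2, ← Unitary.card_fixed hF]
    exact Nat.card_congr (Equiv.subtypeEquivRight fun x => Iff.rfl)
  have hN : normK ρ = 1 := by
    haveI : Subsingleton (Kf F)ˣ := by
      rw [← Finite.card_le_one_iff_subsingleton, Nat.card_units, Nat.card_eq_fintype_card, hcK]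
    exact Subsingleton.elim _ _
  obtain ⟨gθ, hθ⟩ := sl_two_small (K := F) (by rw [hF, hq2]; norm_num)
  obtain ⟨gκ, h2⟩ := sl_two_bit hcK
  have h := presOn_glue_filter (m := 0) hρ hρg genK htv hθ h2 (B := 13) fun zθ zκ h1 h1' =>
    filter_length_two zθ zκ ρ hρ hN h1 h1' gθ
  exact ⟨_, h.map e⟩

end Cfsg.Agent.KSG55.Herm
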