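import Cfsg.Agent.KSG55.Herm.ModelRels

set_option autoImplicit false
set_option linter.unusedSectionVars false

/-! Generation of the model by the two factors, from generation by transvections. -/

namespace Cfsg.Agent.KSG55.Herm

open Matrix Cfsg.Agent.KSG55.Sp Cfsg.Agent.KSG55.Lin

variable {F : Type*} [Field F] [StarRing F]

section

variable {n : ℕ}

local notation "II" => Fin n ⊕ Fin n

/-- The form preserved, in the second shape. -/
theorem HMat_preserves (X : HG n F) : (HMat X)ᴴ * J (Fin n) F * HMat X = J (Fin n) F := by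
  have hJ : (-J (Fin n) F) * J (Fin n) F = 1 := by rw [Matrix.neg_mul, J_squared, neg_neg]
  have h1 : (-J (Fin n) F * HMat X * J (Fin n) F) * (HMat X)ᴴ = 1 := by
    have h := X.2.1
    calc (-J (Fin n) F * HMat X * J (Fin n) F) * (HMat X)ᴴ
        = -J (Fin n) F * (HMat X * J (Fin n) F * (HMat X)ᴴ) := by simp only [Matrix.mul_assoc]
      _ = 1 := by rw [show HMat X * J (Fin n) F * (HMat X)ᴴ = J (Fin n) F from h, hJ]
  have h2 := mul_eq_one_comm.mp h1
  have hJ' : J (Fin n) F * (-J (Fin n) F) = 1 := by rw [Matrix.mul_neg, J_squared, neg_neg]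
  calc (HMat X)ᴴ * J (Fin n) F * HMat X
      = -((HMat X)ᴴ * (-J (Fin n) F * HMat X * J (Fin n) F) * (-J (Fin n) F)) := by
        simp only [Matrix.mul_assoc, Matrix.neg_mul, Matrix.mul_neg, J_squared, neg_neg, Matrix.mul_one]
    _ = J (Fin n) F := by rw [h2, Matrix.one_mul, neg_neg]

/-- The functional attached to a vector. -/
def dual (v : II → F) : II → F := star v ᵥ* J (Fin n) F

/-- An isotropic vector. -/
def Isot (v : II → F) : Prop := dual v ⬝ᵥ v = 0

/-- A transvection. -/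
def tvMat (v : II → F) (t : Kf F) : Matrix II II F := 1 + (t : F) • vecMulVec v (dual v)

theorem dual_mulVec (X : HG n F) (v : II → F) : dual (HMat X *ᵥ v) ᵥ* HMat X = dual v := by
  rw [dual, dual, star_mulVec, vecMul_vecMul, vecMul_vecMul, ← Matrix.mul_assoc, HMat_preserves]

theorem conj_tvMat (X : HG n F) (v : II → F) (t : Kf F) :
    HMat X * tvMat v t = tvMat (HMat X *ᵥ v) t * HMat X := by
  rw [tvMat, tvMat, mul_add, add_mul, mul_one, one_mul, Matrix.mul_smul, Matrix.smul_mul, mul_vecMulVec,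
    vecMulVec_mul, dual_mulVec]

end

variable {m : ℕ}

local notation "Mn" => Matrix (Fin (m + 2)) (Fin (m + 2)) F
local notation "HN" => HG (m + 2) F
local notation "VV" => Fin (m + 2) ⊕ Fin (m + 2) → F

/-- The first basis vector. -/
def e0 : VV := Sum.elim (bv 0) 0

theorem sM_mulVec (S : Mn) (hS : Sᴴ = S) (x y : Fin (m + 2) → F) :
    HMat (sM S hS) *ᵥ Sum.elim x y = Sum.elim (x + S *ᵥ y) y := by
  rw [sM_coe, fromBlocks_mulVec]; simp

theorem gM_mulVec (A : LG F (m + 2)) (x y : Fin (m + 2) → F) :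
    HMat (gM A) *ᵥ Sum.elim x y = Sum.elim (LM A *ᵥ x) ((LM A⁻¹)ᴴ *ᵥ y) := by
  rw [gM_coe, fromBlocks_mulVec]; simp

theorem kT_mulVec : HMat (kM mT : HN) *ᵥ Sum.elim (0 : Fin (m + 2) → F) (bv 0) = e0 := by
  rw [kT_coe, fromBlocks_mulVec, Sum.elim_comp_inl, Sum.elim_comp_inr]
  simp only [mulVec_zero, zero_add, sub_mulVec, one_mulVec, vecMulVec_mulVec, e0]
  simp [bv]

theorem dual_e0 : dual (e0 : VV) = Sum.elim (0 : Fin (m + 2) → F) (-bv 0) := by
  rw [dual, e0]
  funext i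
  rcases i with i | i <;>
    simp [vecMul, dotProduct, Fintype.sum_sum_type, Matrix.J, bv, Pi.single_apply, one_apply]
  split_ifs <;> simp

theorem tv_e0 (t : Kf F) : tvMat (e0 : VV) t = HMat (kM (mU (-t)) : HN) := by
  rw [kU_model, sM_coe, tvMat, dual_e0, ← fromBlocks_one]
  ext a b
  rcases a with a | a <;> rcases b with b | b <;>
    simp [e0, vecMulVec_apply, sq1_apply, bv, Pi.single_apply, one_apply]
  split_ifs <;> simp

variable [Finite F]

/-- The two factors generate the model. -/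
theorem hg_gen_of {ω : F} (hω : star ω ≠ ω) (htv : Subgroup.closure {X : HN | ∃ v t, Isot v ∧ HMat X = tvMat v t} = ⊤) :
    (θM (F := F) (m := m)).range ⊔ (kM (F := F) (n := m + 2)).range = ⊤ := by
  classical
  set P := (θM (F := F) (m := m)).range ⊔ (kM (F := F) (n := m + 2)).range with hP
  have hg : ∀ A : LG F (m + 2), (gM A : HN) ∈ P := fun A => by
    rw [← γe_model]
    exact mul_mem (Subgroup.mem_sup_left ⟨_, rfl⟩) (Subgroup.mem_sup_right ⟨_, rfl⟩)
  have hsq : ∀ (v : Fin (m + 2) → F) (t : Kf F), (sM (sq1 v t) (sq1_herm v t) : HN) ∈ P := by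
    intro v t
    rcases eq_or_ne v 0 with rfl | hv
    · convert one_mem P
      apply HMat_inj
      rw [sM_coe]
      show _ = (1 : Matrix (Fin (m + 2) ⊕ Fin (m + 2)) (Fin (m + 2) ⊕ Fin (m + 2)) F)
      simp [sq1]
    obtain ⟨A, hA⟩ := exists_colL0 hv
    rw [← Ve_model A t hA]
    exact mul_mem (mul_mem (γe_model A ▸ hg A) (Subgroup.mem_sup_right ⟨_, rfl⟩)) (inv_mem (γe_model A ▸ hg A))
  let Y : AddSubgroup Mn :=
    { carrier := {S | ∃ h, (sM S h : HN) ∈ P}
      zero_mem' := ⟨conjTranspose_zero, by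
        convert one_mem P
        apply HMat_inj
        rw [sM_coe]
        show _ = (1 : Matrix (Fin (m + 2) ⊕ Fin (m + 2)) (Fin (m + 2) ⊕ Fin (m + 2)) F)
        simp⟩
      add_mem' := by
        rintro S S' ⟨h, hS⟩ ⟨h', hS'⟩
        exact ⟨by rw [conjTranspose_add, h, h'], by rw [← sM_mul S S' h h']; exact mul_mem hS hS'⟩
      neg_mem' := by
        rintro S ⟨h, hS⟩
        refine ⟨by rw [conjTranspose_neg, h], ?_⟩
        convert inv_mem hS using 1
        refine (inv_eq_of_mul_eq_one_right ?_).symm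
        rw [sM_mul]; apply HMat_inj; rw [sM_coe, add_neg_cancel, fromBlocks_one]; rfl }
  have hsym : ∀ S : Mn, Sᴴ = S → S ∈ Y := fun S hS => by
    have hsq' : ∀ v t, sq1 v t ∈ Y := fun v t => ⟨_, hsq v t⟩
    rw [herm_decomp hω hS]
    refine add_mem (sum_mem fun i _ => hsq' _ _) (sum_mem fun p _ => ?_)
    exact add_mem (sub_mem (sub_mem (hsq' _ _) (hsq' _ _)) (hsq' _ _))
      (sub_mem (sub_mem (hsq' _ _) (hsq' _ _)) (hsq' _ _))
  have hT : (kM mT : HN)⁻¹ ∈ P := inv_mem (Subgroup.mem_sup_right ⟨_, rfl⟩)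
  have orb : ∀ v : VV, v ≠ 0 → Isot v → ∃ g ∈ P, HMat g *ᵥ e0 = v := by
    intro v hv hiso
    have hvs : v = Sum.elim (v ∘ Sum.inl) (v ∘ Sum.inr) := (Sum.elim_comp_inl_inr v).symm
    by_cases hy : v ∘ Sum.inr = 0
    · have hx : v ∘ Sum.inl ≠ 0 := fun h => hv (by rw [hvs, hy, h]; funext i; rcases i with i | i <;> rfl)
      obtain ⟨A, hA⟩ := exists_colL0 hx
      refine ⟨gM A, hg A, ?_⟩
      conv_rhs => rw [hvs, hy]
      rw [e0, gM_mulVec, hA, mulVec_zero]
    · obtain ⟨B, hB⟩ := exists_colL0 hy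
      let A0 : GL (Fin (m + 2)) F := ⟨(LM B⁻¹)ᴴ, (LM B)ᴴ,
        by rw [← conjTranspose_mul, LM_mul_inv, conjTranspose_one],
        by rw [← conjTranspose_mul, LM_inv_mul, conjTranspose_one]⟩
      set A : LG F (m + 2) := ⟨A0, mem_LG.mpr (by
        show star ((LM B⁻¹)ᴴ).det = ((LM B⁻¹)ᴴ).det
        rw [det_conjTranspose, star_star]
        exact (mem_LG.mp (B⁻¹).2).symm)⟩
      have hA : LM A = (LM B⁻¹)ᴴ := rfl
      have hAi : LM A⁻¹ = (LM B)ᴴ := rfl
      set x := (LM B)ᴴ *ᵥ (v ∘ Sum.inl) with hxdef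
      have hx0 : star (x 0) = x 0 := by
        have h1 : star (v ∘ Sum.inr) ⬝ᵥ (v ∘ Sum.inl) = x 0 := by
          rw [← hB, star_mulVec, star_bv, ← dotProduct_mulVec, ← hxdef, bv, single_one_dotProduct]
        have h2 : star (x 0) = star (v ∘ Sum.inl) ⬝ᵥ (v ∘ Sum.inr) := by
          rw [← h1, ← star_dotProduct_star, star_star]
        have h3 : dual v ⬝ᵥ v = star (v ∘ Sum.inr) ⬝ᵥ (v ∘ Sum.inl) - star (v ∘ Sum.inl) ⬝ᵥ (v ∘ Sum.inr) := by
          simp [dual, vecMul, dotProduct, Fintype.sum_sum_type, Matrix.J, one_apply, sub_eq_add_neg,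
            Finset.sum_neg_distrib, mul_comm]
        have h4 : dual v ⬝ᵥ v = 0 := hiso
        rw [h2, ← h1]
        exact (sub_eq_zero.mp (h3 ▸ h4)).symm
      set S : Mn := vecMulVec x (bv 0) + vecMulVec (bv 0) (star x) - x 0 • vecMulVec (bv 0) (bv 0)
      have hSs : Sᴴ = S := by
        simp only [S, conjTranspose_sub, conjTranspose_add, conjTranspose_smul, conjTranspose_vecMulVec, star_bv,
          star_star, hx0]
        abel
      obtain ⟨h, hS⟩ := hsym S hSs
      refine ⟨gM A * (sM S h * (kM mT)⁻¹), mul_mem (hg A) (mul_mem hS hT), ?_⟩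
      have hTi : HMat (kM mT : HN)⁻¹ *ᵥ e0 = Sum.elim (0 : Fin (m + 2) → F) (bv 0) := by
        rw [← kT_mulVec, mulVec_mulVec, ← HMat_mul, inv_mul_cancel]
        exact one_mulVec _
      have hS0 : S *ᵥ bv 0 = x := by
        simp only [S, sub_mulVec, add_mulVec, smul_mulVec, vecMulVec_mulVec]
        funext i
        by_cases hi : i = 0
        · subst hi; simp [bv, hx0]
        · simp [bv, hi]
      rw [HMat_mul, HMat_mul, ← mulVec_mulVec, ← mulVec_mulVec, hTi, sM_mulVec, hS0, zero_add, gM_mulVec, hA, hAi,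
        conjTranspose_conjTranspose, hB, hxdef, mulVec_mulVec, ← conjTranspose_mul, LM_mul_inv, conjTranspose_one,
        one_mulVec]
      exact (Sum.elim_comp_inl_inr v)
  rw [eq_top_iff, ← htv]
  refine (Subgroup.closure_le _).mpr ?_
  rintro X ⟨v, t, hiso, hX⟩
  rcases eq_or_ne v 0 with rfl | hv
  · have : X = 1 := HMat_inj (by
      rw [hX, tvMat, zero_vecMulVec, smul_zero, add_zero]; rfl)
    rw [this]; exact one_mem P
  obtain ⟨g, hgP, rfl⟩ := orb v hv hiso
  have e : X = g * kM (mU (-t)) * g⁻¹ := by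
    rw [eq_mul_inv_iff_mul_eq]
    apply HMat_inj
    rw [HMat_mul, HMat_mul, hX, ← tv_e0, conj_tvMat]
  rw [e]
  exact mul_mem (mul_mem hgP (Subgroup.mem_sup_right ⟨_, rfl⟩)) (inv_mem hgP)

end Cfsg.Agent.KSG55.Herm
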