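import Cfsg.Agent.KSG55.Herm.Tmove
import Cfsg.Agent.KSG55.Sp.Model
import Cfsg.Agent.KSG55.Lin.RootSys

set_option autoImplicit false
set_option linter.unusedSectionVars false

/-! The hyperbolic model of the unitary group in even dimension. -/

namespace Cfsg.Agent.KSG55.Herm

open Matrix Cfsg.Agent.KSG55.Sp Cfsg.Agent.KSG55.Lin

variable {F : Type*} [Field F] [StarRing F] {n : ℕ}

local notation "𝕄" => Matrix (Fin n) (Fin n) F
local notation "K" => Kf F

variable (n F) in
/-- Invertible matrices preserving the skew-Hermitian hyperbolic form. -/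
def HU : Subgroup (GL (Fin n ⊕ Fin n) F) where
  carrier := {X | X.1 * J (Fin n) F * X.1ᴴ = J (Fin n) F}
  one_mem' := by simp
  mul_mem' := by
    intro X Y hX hY
    simp only [Set.mem_setOf_eq, Units.val_mul, conjTranspose_mul] at *
    rw [show X.1 * Y.1 * J (Fin n) F * (Y.1ᴴ * X.1ᴴ) = X.1 * (Y.1 * J (Fin n) F * Y.1ᴴ) * X.1ᴴ by
      simp only [Matrix.mul_assoc], hY, hX]
  inv_mem' := by
    intro X hX
    simp only [Set.mem_setOf_eq] at *
    conv_lhs => rw [← hX]
    rw [show (X⁻¹).1 * (X.1 * J (Fin n) F * X.1ᴴ) * (X⁻¹).1ᴴ = ((X⁻¹).1 * X.1) * J (Fin n) F * (X.1ᴴ * (X⁻¹).1ᴴ) by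
      simp only [Matrix.mul_assoc], ← conjTranspose_mul, ← Units.val_mul, inv_mul_cancel, Units.val_one,
      conjTranspose_one, Matrix.one_mul, Matrix.mul_one]

variable (n F) in
/-- The special unitary group in hyperbolic coordinates. -/
def HS : Subgroup (GL (Fin n ⊕ Fin n) F) := HU F n ⊓ GeneralLinearGroup.det.ker

/-- The group as a type. -/
abbrev HG (n : ℕ) (F : Type*) [Field F] [StarRing F] := ↥(HS F n)

/-- The matrix. -/
abbrev HMat (X : HG n F) : Matrix (Fin n ⊕ Fin n) (Fin n ⊕ Fin n) F := X.1.1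

theorem HMat_inj {X Y : HG n F} (h : HMat X = HMat Y) : X = Y := Subtype.ext (Units.ext h)

theorem HMat_mul (X Y : HG n F) : HMat (X * Y) = HMat X * HMat Y := rfl

theorem block_mem {A B C D : 𝕄} (h1 : B * Aᴴ = A * Bᴴ) (h2 : D * Cᴴ = C * Dᴴ) (h3 : A * Dᴴ - B * Cᴴ = 1) :
    fromBlocks A B C D * J (Fin n) F * (fromBlocks A B C D)ᴴ = J (Fin n) F := by
  rw [Matrix.J, fromBlocks_multiply, fromBlocks_conjTranspose, fromBlocks_multiply]
  have h3' : D * Aᴴ - C * Bᴴ = 1 := by
    have := congrArg Matrix.conjTranspose h3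
    simpa [conjTranspose_mul] using this
  simp only [Matrix.mul_zero, Matrix.mul_neg, Matrix.mul_one, zero_add, add_zero, Matrix.neg_mul]
  congr 1
  · rw [h1]; abel
  · rw [← h3]; abel
  · rw [← h3']; abel
  · rw [h2]; abel

/-- The unipotent element. -/
noncomputable def sM (S : 𝕄) (hS : Sᴴ = S) : HG n F :=
  ⟨GeneralLinearGroup.mkOfDetNeZero (fromBlocks 1 S 0 1) (by rw [det_fromBlocks_zero₂₁]; simp),
    block_mem (by simp [hS]) (by simp) (by simp),
    Units.ext (show (fromBlocks 1 S 0 1).det = 1 by rw [det_fromBlocks_zero₂₁]; simp)⟩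

theorem sM_coe (S : 𝕄) (hS : Sᴴ = S) : HMat (sM S hS) = fromBlocks 1 S 0 1 := rfl

theorem sM_congr {S S' : 𝕄} (hS : Sᴴ = S) (hS' : S'ᴴ = S') (h : S = S') : sM S hS = sM S' hS' := by
  subst h; rfl

theorem sM_mul (S S' : 𝕄) (hS : Sᴴ = S) (hS' : S'ᴴ = S') :
    sM S hS * sM S' hS' = sM (S + S') (by rw [conjTranspose_add, hS, hS']) := by
  apply HMat_inj
  rw [HMat_mul, sM_coe, sM_coe, sM_coe, fromBlocks_multiply]
  simp [add_comm S']

theorem det_gMat (A : LG F n) : (fromBlocks (LM A) 0 0 (LM A⁻¹)ᴴ).det = 1 := by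
  rw [det_fromBlocks_zero₂₁, det_conjTranspose, mem_LG.mp (A⁻¹).2, ← det_mul, LM_mul_inv, det_one]

/-- The Levi element. -/
noncomputable def gM : LG F n →* HG n F where
  toFun A := ⟨GeneralLinearGroup.mkOfDetNeZero (fromBlocks (LM A) 0 0 (LM A⁻¹)ᴴ)
      (by rw [det_gMat]; exact one_ne_zero),
    block_mem (by simp) (by simp) (by simp [LM_mul_inv]), Units.ext (det_gMat A)⟩
  map_one' := HMat_inj (by
    show fromBlocks _ 0 0 _ = (1 : Matrix (Fin n ⊕ Fin n) (Fin n ⊕ Fin n) F)
    rw [inv_one, LM_one, conjTranspose_one, fromBlocks_one])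
  map_mul' A B := HMat_inj (by
    show fromBlocks _ 0 0 _ = fromBlocks (LM A) 0 0 _ * fromBlocks (LM B) 0 0 _
    rw [fromBlocks_multiply, _root_.mul_inv_rev, LM_mul, LM_mul]
    simp [conjTranspose_mul])

theorem gM_coe (A : LG F n) : HMat (gM A) = fromBlocks (LM A) 0 0 (LM A⁻¹)ᴴ := rfl

theorem gM_conj_sM (A : LG F n) (S : 𝕄) (hS : Sᴴ = S) :
    gM A * sM S hS * (gM A)⁻¹ = sM (LM A * S * (LM A)ᴴ) (by simp [conjTranspose_mul, hS, Matrix.mul_assoc]) := by
  rw [mul_inv_eq_iff_eq_mul]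
  apply HMat_inj
  rw [HMat_mul, HMat_mul, gM_coe, sM_coe, sM_coe, fromBlocks_multiply, fromBlocks_multiply]
  simp [Matrix.mul_assoc, ← conjTranspose_mul, LM_inv_mul]

variable [NeZero n]

theorem d0_one : (d0 1 : 𝕄) = 1 := by
  rw [d0, ← diagonal_one]; congr 1; funext i; by_cases h : i = 0 <;> simp [h]

theorem d0_herm (x : K) : (d0 (x : F) : 𝕄)ᴴ = d0 (x : F) := by
  rw [d0, diagonal_conjTranspose]
  congr 1; funext i
  by_cases h : i = 0
  · subst h; simp [star_coeK]
  · simp [h]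

/-- The matrix of the long root copy. -/
def kMat (M : SpecialLinearGroup (Fin 2) K) : Matrix (Fin n ⊕ Fin n) (Fin n ⊕ Fin n) F :=
  fromBlocks (d0 (M.1 0 0 : F)) (single 0 0 (M.1 0 1 : F)) (single 0 0 (M.1 1 0 : F)) (d0 (M.1 1 1 : F))

theorem kMat_one : kMat (n := n) (F := F) 1 = 1 := by simp [kMat, d0_one]

theorem kMat_mul (M N : SpecialLinearGroup (Fin 2) K) : kMat (n := n) (M * N) = kMat M * kMat N := by
  show fromBlocks _ _ _ _ = fromBlocks (d0 _) _ _ _ * fromBlocks (d0 _) _ _ _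
  rw [fromBlocks_multiply]
  simp only [d0_mul, single_d0, d0_single, single_mul_single_same, d0_add_single, single_add_d0, ← single_add]
  simp [Matrix.mul_apply, Fin.sum_univ_two]

/-- The same, among invertible matrices. -/
def kGL : SpecialLinearGroup (Fin 2) K →* GL (Fin n ⊕ Fin n) F where
  toFun M := ⟨kMat M, kMat M⁻¹, by rw [← kMat_mul, mul_inv_cancel, kMat_one],
    by rw [← kMat_mul, inv_mul_cancel, kMat_one]⟩
  map_one' := Units.ext kMat_one
  map_mul' M N := Units.ext (kMat_mul M N)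

theorem kGL_det (M : SpecialLinearGroup (Fin 2) K) :
    GeneralLinearGroup.det (kGL (n := n) M) = 1 := by
  have hU : ∀ x : K, GeneralLinearGroup.det (kGL (n := n) (mU x)) = 1 := fun x => Units.ext (by
    show (kMat (mU x)).det = 1
    simp [kMat, mU_coe, d0_one, det_fromBlocks_zero₂₁])
  have hL : ∀ x : K, GeneralLinearGroup.det (kGL (n := n) (mL x)) = 1 := fun x => Units.ext (by
    show (kMat (mL x)).det = 1
    simp [kMat, mL_coe, d0_one, det_fromBlocks_zero₁₂])
  have hT : GeneralLinearGroup.det (kGL (n := n) (mT : SpecialLinearGroup (Fin 2) K)) = 1 := by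
    have e : (mT : SpecialLinearGroup (Fin 2) K) = mU 1 * mL (-1) * mU 1 := by
      apply Subtype.ext
      ext i j
      simp only [SpecialLinearGroup.coe_mul, mT_coe, mU_coe, mL_coe, Matrix.mul_apply, Fin.sum_univ_two]
      fin_cases i <;> fin_cases j <;> simp
    simp only [e, map_mul, hU, hL, mul_one]
  have := eq_top_of_mem (H := ((GeneralLinearGroup.det).comp (kGL (F := F) (n := n))).ker) hT hU
  have hM : M ∈ ((GeneralLinearGroup.det).comp (kGL (F := F) (n := n))).ker := this ▸ Subgroup.mem_top M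
  exact hM

/-- The embedding of `SL₂` on the first coordinate pair. -/
noncomputable def kM : SpecialLinearGroup (Fin 2) K →* HG n F :=
  kGL.codRestrict (HS F n) fun M => ⟨by
    have hdet : (M.1 0 0 : F) * (M.1 1 1 : F) - (M.1 0 1 : F) * (M.1 1 0 : F) = 1 := by
      have h := congrArg (Subtype.val : K → F) ((Matrix.det_fin_two M.1).symm.trans M.2)
      simpa using h
    show kMat M * _ * (kMat M)ᴴ = _
    refine block_mem ?_ ?_ ?_ <;>
      simp only [d0_herm, conjTranspose_single, star_coeK, single_d0, d0_single, d0_mul, single_mul_single_same,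
        mul_comm]
    rw [sub_eq_add_neg, show ∀ z : F, -(single (0 : Fin n) (0 : Fin n) z) = single 0 0 (-z) from fun z => by
      ext i j; simp [single_apply]; split_ifs <;> simp, d0_add_single, d0, ← diagonal_one, ← sub_eq_add_neg]
    congr 1; funext i
    by_cases h : i = 0
    · subst h; simp; linear_combination hdet
    · simp [h], kGL_det M⟩

theorem kM_coe (M : SpecialLinearGroup (Fin 2) K) : HMat (kM (n := n) M) = kMat M := rfl

theorem single00_herm (t : K) : (single (0 : Fin n) (0 : Fin n) (t : F))ᴴ = single 0 0 (t : F) := by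
  rw [conjTranspose_single, star_coeK]

theorem kM_mU (t : K) : (kM (mU t) : HG n F) = sM (single 0 0 (t : F)) (single00_herm t) := by
  apply HMat_inj
  rw [kM_coe, sM_coe, kMat]
  simp [mU_coe, d0_one]

theorem kM_mH (a : Kˣ) : (kM (mH a) : HG n F) = gM (dK 0 a) := by
  apply HMat_inj
  rw [kM_coe, gM_coe, kMat, ← map_inv]
  show _ = fromBlocks ((dgl 0 (liftK a) : GL (Fin n) F) : 𝕄) 0 0 ((dgl 0 (liftK a⁻¹) : GL (Fin n) F) : 𝕄)ᴴ
  rw [dgl_coe, dgl_coe, diagonal_conjTranspose]
  simp only [mH_coe, of_apply, cons_val_zero, cons_val_one, ZeroMemClass.coe_zero, single_zero, liftK_coe, d0]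
  congr 2
  funext i
  rw [Pi.star_apply]
  by_cases h : i = 0
  · subst h; simp only [Function.update_self, star_coeK]
  · simp only [Function.update_of_ne h, Pi.one_apply, star_one]

end Cfsg.Agent.KSG55.Herm
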