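import Cfsg.Agent.KSG55.Herm.Cells
import Cfsg.Agent.KSG55.Herm.Model
import Cfsg.Agent.KSG55.Sp.ModelRels

set_option autoImplicit false
set_option linter.unusedSectionVars false

/-! A group satisfying the relations maps faithfully to the unitary group. -/

namespace Cfsg.Agent.KSG55.Herm

open Matrix Cfsg.Agent.KSG55.Sp Cfsg.Agent.KSG55.Lin

variable {F : Type*} [Field F] [StarRing F] {m : ℕ}

local notation "GLn" => GL (Fin (m + 2)) F
local notation "LGn" => LG F (m + 2)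
local notation "Vn" => Fin (m + 2) → F
local notation "Mn" => Matrix (Fin (m + 2)) (Fin (m + 2)) F
local notation "K" => Kf F

theorem pgl_conjTranspose (s : Equiv.Perm (Fin (m + 2))) :
    ((pgl s : GLn) : Mn)ᴴ = ((pgl s : GLn) : Mn)ᵀ := by
  ext a b
  rw [conjTranspose_apply, transpose_apply, pgl_coe]
  simp only [Equiv.Perm.permMatrix, Equiv.toPEquiv, PEquiv.toMatrix_apply, of_apply]
  split_ifs <;> simp

/-- The image of a Weyl element. -/
theorem gM_pg_conj_kT [Finite F] (i : Fin (m + 2)) :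
    HMat (gM (pg (Equiv.swap 0 i) : LGn) * kM mT * (gM (pg (Equiv.swap 0 i) : LGn))⁻¹) =
      fromBlocks (diagonal (Function.update 1 i 0)) (Matrix.single i i 1) (-Matrix.single i i 1)
        (diagonal (Function.update 1 i 0)) := by
  obtain ⟨-, -, hsi, -⟩ := Glue.swap_LM (F := F) i
  set s : GLn := pgl (Equiv.swap 0 i) with hs
  have hst : (s : Mn)ᵀ = (s : Mn) := by rw [hs, pgl_transpose, Equiv.swap_inv]
  have hd : ∀ x : F, (s : Mn) * d0 x * (s : Mn) = diagonal (Function.update 1 i x) := fun x => by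
    refine Matrix.ext_of_mulVec_single fun b => ?_
    show ((s : Mn) * d0 x * (s : Mn)) *ᵥ bv b = diagonal (Function.update 1 i x) *ᵥ bv b
    rw [← mulVec_mulVec, ← mulVec_mulVec, hs, pgl_bv, pgl_mulVec]
    funext a
    simp only [Function.comp_apply, d0, mulVec_diagonal, Equiv.swap_inv, bv, Pi.single_apply, Function.update_apply,
      Pi.one_apply, EmbeddingLike.apply_eq_iff_eq]
    simp only [show (Equiv.swap 0 i a = 0) ↔ (a = i) from ⟨fun h => by
      rw [← Equiv.swap_apply_self 0 i a, h, Equiv.swap_apply_left], fun h => by rw [h, Equiv.swap_apply_right]⟩]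
  have he : ∀ x : F, (s : Mn) * Matrix.single 0 0 x * (s : Mn) = Matrix.single i i x := fun x => by
    rw [Sp.single_bv, Sp.single_bv, Matrix.mul_smul, Matrix.smul_mul, mul_vecMulVec, vecMulVec_mul,
      ← mulVec_transpose, hst, hs, pgl_bv, Equiv.swap_apply_left]
  rw [← map_inv, hsi, HMat_mul, HMat_mul, gM_coe, hsi, kM_coe, kMat]
  show fromBlocks (s : Mn) 0 0 (s : Mn)ᴴ * _ * fromBlocks (s : Mn) 0 0 (s : Mn)ᴴ = _
  rw [hs, pgl_conjTranspose, ← hs, hst, fromBlocks_multiply, fromBlocks_multiply]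
  simp only [mT_coe, of_apply, cons_val_zero, cons_val_one, Matrix.mul_zero, Matrix.zero_mul, zero_add, add_zero,
    ZeroMemClass.coe_zero, OneMemClass.coe_one, NegMemClass.coe_neg]
  have hn : Matrix.single (0 : Fin (m + 2)) (0 : Fin (m + 2)) (-1 : F) = -Matrix.single 0 0 1 := by
    ext a b; simp [single_apply]; split_ifs <;> simp
  rw [hd, he, hn, Matrix.mul_neg, Matrix.neg_mul, he]

theorem sq1_bv0 (t : K) : Matrix.single (0 : Fin (m + 2)) (0 : Fin (m + 2)) (t : F) = sq1 (bv 0) t := by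
  rw [sq1, star_bv, Sp.single_bv]

variable {G : Type*} [Group G] (D : Glue F m G) (Φ : G →* HG (m + 2) F)

theorem Φ_Γ (hθ : ∀ B, Φ (D.θ B) = gM (ofSL B)) (hκ : ∀ M, Φ (D.κ M) = kM M) (A : LGn) :
    Φ (D.Γ A) = gM A := by
  rw [Glue.Γ_apply, γe, map_mul, hθ, hκ, kM_mH, ← map_mul, ofSL_toSL, inv_mul_cancel_right]

variable [Finite F]

/-- The upper right block. -/
theorem Φ_el (hθ : ∀ B, Φ (D.θ B) = gM (ofSL B)) (hκ : ∀ M, Φ (D.κ M) = kM M) :
    ∃ f : Additive ↥D.QG →+ Mn, (∀ x, ∃ h : (f x)ᴴ = f x, Φ (D.el x) = sM (f x) h) ∧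
      ∀ v t, f (D.qA v t) = sq1 v t := by
  classical
  have hq : ∀ v t, Φ (D.q v t) = sM (sq1 v t) (sq1_herm v t) := by
    intro v t
    rcases eq_or_ne v 0 with rfl | hv
    · rw [Glue.q_zero, map_one]
      apply HMat_inj
      rw [sM_coe]
      simp [sq1, zero_vecMulVec]
    obtain ⟨B, hB⟩ := exists_colL0 hv
    rw [D.q_col hB, map_mul, map_mul, map_inv, Φ_Γ D Φ hθ hκ, hκ, kM_mU, gM_conj_sM]
    refine sM_congr _ _ ?_
    rw [sq1_bv0, sq1_conj, hB]
  have hall : ∀ g ∈ D.QG, ∃ S, ∃ h : (S : Mn)ᴴ = S, Φ g = sM S h := by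
    intro g hg
    induction hg using Subgroup.closure_induction with
    | mem g hg => obtain ⟨v, t, rfl⟩ := hg; exact ⟨_, _, hq v t⟩
    | one =>
      refine ⟨0, conjTranspose_zero, ?_⟩
      rw [map_one]; apply HMat_inj
      show (1 : Matrix (Fin (m + 2) ⊕ Fin (m + 2)) (Fin (m + 2) ⊕ Fin (m + 2)) F) = fromBlocks 1 0 0 1
      simp
    | mul x y _ _ hx hy =>
      obtain ⟨S, hS, e⟩ := hx
      obtain ⟨S', hS', e'⟩ := hy
      exact ⟨S + S', _, by rw [map_mul, e, e', sM_mul]⟩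
    | inv x _ hx =>
      obtain ⟨S, hS, e⟩ := hx
      refine ⟨-S, by rw [conjTranspose_neg, hS], ?_⟩
      rw [map_inv, e]
      refine inv_eq_of_mul_eq_one_right ?_
      rw [sM_mul]; apply HMat_inj; rw [sM_coe, add_neg_cancel, fromBlocks_one]; rfl
  let fF : Additive ↥D.QG → Mn := fun x => (HMat (Φ (D.el x))).toBlocks₁₂
  have hf : ∀ x, ∃ h : (fF x)ᴴ = fF x, Φ (D.el x) = sM (fF x) h := fun x => by
    obtain ⟨S, hS, e⟩ := hall _ (Additive.toMul x).2
    have : fF x = S := by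
      show (HMat (Φ (D.el x))).toBlocks₁₂ = S
      rw [show Φ (D.el x) = sM S hS from e, sM_coe, toBlocks_fromBlocks₁₂]
    exact ⟨by rw [this, hS], (show Φ (D.el x) = sM S hS from e).trans (sM_congr _ _ this.symm)⟩
  refine ⟨AddMonoidHom.mk' fF fun x y => ?_, hf, fun v t => ?_⟩
  · obtain ⟨hx, ex⟩ := hf x
    obtain ⟨hy, ey⟩ := hf y
    show (HMat (Φ (D.el (x + y)))).toBlocks₁₂ = _
    rw [Glue.el_add, map_mul, ex, ey, sM_mul, sM_coe, toBlocks_fromBlocks₁₂]
  · show (HMat (Φ (D.el (D.qA v t)))).toBlocks₁₂ = _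
    rw [Glue.el_qA, hq v t, sM_coe, toBlocks_fromBlocks₁₂]

theorem Φ_σ (hθ : ∀ B, Φ (D.θ B) = gM (ofSL B)) (hκ : ∀ M, Φ (D.κ M) = kM M)
    {S : Mn} (hS : Sᴴ = S) : Φ (D.σ S) = sM S hS := by
  obtain ⟨f, hf, hfq⟩ := Φ_el D Φ hθ hκ
  obtain ⟨h, e⟩ := hf (Lin D.hρ D.qA S)
  rw [Glue.σ, e]
  refine sM_congr _ _ ?_
  rw [Lin, map_add, map_sum, map_sum]
  simp only [Lij, map_add, map_sub, hfq]
  exact (herm_decomp D.hρ hS).symm

/-- Faithfulness. -/
theorem glue_inj (hθ : ∀ B, Φ (D.θ B) = gM (ofSL B)) (hκ : ∀ M, Φ (D.κ M) = kM M)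
    (htop : D.θ.range ⊔ D.κ.range = ⊤) : ∀ g : G, Φ g = 1 → g = 1 := by
  classical
  have hP : ∀ p ∈ D.P, ((HMat (Φ p)).toBlocks₂₁ = 0) := by
    rintro _ ⟨A, S, hS, rfl⟩
    rw [map_mul, Φ_Γ D Φ hθ hκ, Φ_σ D Φ hθ hκ hS, HMat_mul, gM_coe, sM_coe, fromBlocks_multiply,
      toBlocks_fromBlocks₂₁]
    simp
  have hW : ∀ I : Finset (Fin (m + 2)), HMat (Φ (D.W I)) =
      fromBlocks (diagonal fun j => if j ∈ I then 0 else 1) (diagonal fun j => if j ∈ I then 1 else 0)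
        (-diagonal fun j => if j ∈ I then (1 : F) else 0) (diagonal fun j => if j ∈ I then 0 else 1) := by
    intro I
    induction I using Finset.induction_on with
    | empty =>
      rw [Glue.W_empty, map_one]
      show (1 : Matrix (Fin (m + 2) ⊕ Fin (m + 2)) (Fin (m + 2) ⊕ Fin (m + 2)) F) = _
      simp
    | @insert i I hi ih =>
      rw [D.W_insert hi, map_mul, Glue.Ti, map_mul, map_mul, map_inv, Φ_Γ D Φ hθ hκ, hκ, HMat_mul, ih, gM_pg_conj_kT,
        ← diagonal_single, fromBlocks_multiply]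
      simp only [diagonal_mul_diagonal, diagonal_neg, diagonal_add]
      congr 1 <;> refine diagonal_eq_diagonal_iff.mpr fun j => ?_
      all_goals
        by_cases hj : j = i
        · subst hj; simp [hi]
        · by_cases hjI : j ∈ I <;> simp [hj, hjI]
  intro g hg
  obtain ⟨p₁, h₁, I, p₂, h₂, rfl⟩ := D.mem_Ω htop g
  have hI : I = ∅ := by
    have e : Φ (D.W I) = Φ p₁⁻¹ * Φ p₂⁻¹ := by
      have : Φ p₁ * Φ (D.W I) * Φ p₂ = 1 := by rw [← map_mul, ← map_mul, hg]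
      calc Φ (D.W I) = (Φ p₁)⁻¹ * (Φ p₁ * Φ (D.W I) * Φ p₂) * (Φ p₂)⁻¹ := by group
        _ = _ := by rw [this, mul_one, map_inv, map_inv]
    have e' := congrArg (fun x : HG (m + 2) F => (HMat x).toBlocks₂₁) e
    simp only [hW, toBlocks_fromBlocks₂₁] at e'
    rw [← map_mul, hP _ (mul_mem (inv_mem h₁) (inv_mem h₂))] at e'
    ext j
    simp only [Finset.notMem_empty, iff_false]
    intro hj
    have := congrFun (congrFun e' j) j
    simp [hj] at this
  subst hI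
  rw [Glue.W_empty, mul_one] at hg ⊢
  obtain ⟨A, S, hS, e⟩ := mul_mem h₁ h₂
  rw [e] at hg ⊢
  rw [map_mul, Φ_Γ D Φ hθ hκ, Φ_σ D Φ hθ hκ hS] at hg
  have hM : fromBlocks (LM A) 0 0 (LM A⁻¹)ᴴ * fromBlocks 1 S 0 1 = 1 := congrArg HMat hg
  rw [fromBlocks_multiply, ← fromBlocks_one, fromBlocks_inj] at hM
  obtain ⟨hA, hAS, -, -⟩ := hM
  simp only [Matrix.mul_one, Matrix.mul_zero, add_zero] at hA hAS
  have hA1 : A = 1 := LM_inj hA
  subst hA1
  rw [LM_one, Matrix.one_mul] at hAS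
  subst hAS
  rw [map_one, one_mul, Glue.σ_zero]

end Cfsg.Agent.KSG55.Herm
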