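import Cfsg.Agent.KSG55.Herm.Gen
import Cfsg.Agent.Lib.ChevGen.SUFrame
import Cfsg.Agent.Lib.Unitary.Generation
import Cfsg.Agent.Lib.Unitary.Transvection

set_option autoImplicit false
set_option linter.unusedSectionVars false

/-! The model is the special unitary group of the standard form. -/

namespace Cfsg.Agent.KSG55.Herm

open Matrix Cfsg.Agent.KSG55.Sp Cfsg.Agent.KSG55.Lin
open Cfsg.Agent.Unitary (conjHom conjHom_apply)
open Cfsg.Agent.ChevGen.SUGen (Idx exists_frame)

/-- The conjugation of a field with `q²` elements. -/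
@[reducible] def starRingOf {F : Type*} [Field F] [Fintype F] {q : ℕ} (hF : Fintype.card F = q ^ 2) : StarRing F where
  star := conjHom hF
  star_involutive x := Unitary.pow_q_pow_q hF x
  star_mul x y := by show conjHom hF (x * y) = conjHom hF y * conjHom hF x; rw [map_mul, mul_comm]
  star_add x y := map_add _ x y

variable {F : Type*} [Field F] [StarRing F] [Fintype F] {q n l : ℕ}

local notation "II" => Fin l ⊕ Fin l

theorem herm_eq_star (hst : ∀ x : F, star x = x ^ q) (x y : Fin n → F) :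
    Unitary.herm q x y = star y ⬝ᵥ x := by
  simp only [Unitary.herm, hermForm, dotProduct, Pi.star_apply, hst]
  exact Finset.sum_congr rfl fun i _ => mul_comm _ _

/-- Preserving the form. -/
theorem preserves_iff (hst : ∀ x : F, star x = x ^ q) (M : Matrix (Fin n) (Fin n) F) :
    (∀ u v, hermForm n F q (M *ᵥ u) (M *ᵥ v) = hermForm n F q u v) ↔ Mᴴ * M = 1 := by
  have e : ∀ u v, hermForm n F q (M *ᵥ u) (M *ᵥ v) = star v ⬝ᵥ ((Mᴴ * M) *ᵥ u) := fun u v => by
    rw [show hermForm n F q (M *ᵥ u) (M *ᵥ v) = Unitary.herm q (M *ᵥ u) (M *ᵥ v) from rfl, herm_eq_star hst,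
      star_mulVec, ← dotProduct_mulVec, mulVec_mulVec]
  refine ⟨fun h => ?_, fun h u v => ?_⟩
  · ext i j
    have h1 := h (Pi.single j 1) (Pi.single i 1)
    rw [e, show hermForm n F q (Pi.single j 1) (Pi.single i 1) =
      Unitary.herm q (Pi.single j 1 : Fin n → F) (Pi.single i 1) from rfl, herm_eq_star hst] at h1
    have es : star (Pi.single i (1 : F) : Fin n → F) = Pi.single i 1 := star_bv i
    simpa [es, one_apply, Pi.single_apply, eq_comm] using h1
  · rw [e, h, one_mulVec, show hermForm n F q u v = Unitary.herm q u v from rfl, herm_eq_star hst]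

/-- The change of coordinates. -/
theorem exists_coord (hF : Fintype.card F = q ^ 2) (hst : ∀ x : F, star x = x ^ q) (hn : n = 2 * l) :
    ∃ (P : Matrix (Fin n) II F) (Q : Matrix II (Fin n) F) (δ : F), δ ≠ 0 ∧ star δ = -δ ∧
      P * Q = 1 ∧ Q * P = 1 ∧ Pᴴ * P = δ • J (Fin l) F := by
  classical
  obtain ⟨δ, hδ, hδt⟩ : ∃ δ : F, δ ≠ 0 ∧ star δ = -δ := by
    obtain ⟨x, hx⟩ := Unitary.exists_trace_zero_ne_zero hF
    exact ⟨x, hx.1, by rw [hst]; exact eq_neg_of_add_eq_zero_right hx.2⟩
  obtain ⟨B⟩ := exists_frame (l := l) (r := 0) hF (by omega) (by omega)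
  let c : Idx l 0 → Fˣ := fun j => match j with
    | .inl (.inl _) => Units.mk0 δ hδ
    | _ => 1
  set f := (B.e.unitsSMul c).reindex (Equiv.sumEmpty II (Fin 0)) with hf
  have fl : ∀ i, f (.inl i) = δ • B.e (.inl (.inl i)) := fun i => by
    simp [hf, Module.Basis.unitsSMul_apply, c, Units.smul_def]
  have fr : ∀ i, f (.inr i) = B.e (.inl (.inr i)) := fun i => by
    simp [hf, Module.Basis.unitsSMul_apply, c]
  refine ⟨(Pi.basisFun F (Fin n)).toMatrix f, f.toMatrix (Pi.basisFun F (Fin n)), δ, hδ, hδt,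
    Module.Basis.toMatrix_mul_toMatrix_flip _ _, Module.Basis.toMatrix_mul_toMatrix_flip _ _, ?_⟩
  ext j k
  have e : (((Pi.basisFun F (Fin n)).toMatrix f)ᴴ * (Pi.basisFun F (Fin n)).toMatrix f) j k =
      Unitary.herm q (f k) (f j) := by
    rw [herm_eq_star hst]
    simp [Matrix.mul_apply, dotProduct, Module.Basis.toMatrix_apply]
  rw [e]
  rcases j with j | j <;> rcases k with k | k <;>
    simp only [fl, fr, Unitary.herm_smul_left, Unitary.herm_smul_right hF, B.herm_e, ChevGen.SUGen.gram, Matrix.smul_apply,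
      Matrix.J, fromBlocks_apply₁₁, fromBlocks_apply₁₂, fromBlocks_apply₂₁, fromBlocks_apply₂₂, Matrix.zero_apply,
      Matrix.neg_apply, Matrix.one_apply, smul_eq_mul, mul_zero]
  · by_cases h : k = j
    · subst h; simp [← hst, hδt]
    · simp [h, Ne.symm h]
  · by_cases h : k = j
    · subst h; simp
    · simp [h, Ne.symm h]

/-- The isomorphism with the special unitary group, together with generation by transvections. -/
theorem exists_equiv_SU (hF : Fintype.card F = q ^ 2) (hst : ∀ x : F, star x = x ^ q) (hn : n = 2 * l)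
    (h32 : ¬ (n = 3 ∧ q = 2)) :
    Nonempty (HG l F ≃* Cfsg.SU n F q) ∧
      Subgroup.closure {X : HG l F | ∃ v t, Isot v ∧ HMat X = tvMat v t} = ⊤ := by
  classical
  obtain ⟨P, Q, δ, hδ, hδt, hPQ, hQP, hPP⟩ := exists_coord hF hst hn
  have hdet : ∀ M : Matrix II II F, (P * M * Q).det = M.det := fun M => Matrix.det_conj_of_mul_eq_one hPQ hQP
  have hQQ : Qᴴ * (δ • J (Fin l) F) * Q = 1 := by
    rw [← hPP, ← Matrix.mul_assoc, ← conjTranspose_mul, hPQ, conjTranspose_one, Matrix.one_mul, hPQ]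
  have hback : ∀ M : Matrix II II F, Q * (P * M * Q) * P = M := fun M => by
    rw [show Q * (P * M * Q) * P = (Q * P) * M * (Q * P) by simp only [Matrix.mul_assoc], hQP, Matrix.one_mul,
      Matrix.mul_one]
  have hforth : ∀ N : Matrix (Fin n) (Fin n) F, P * (Q * N * P) * Q = N := fun N => by
    rw [show P * (Q * N * P) * Q = (P * Q) * N * (P * Q) by simp only [Matrix.mul_assoc], hPQ, Matrix.one_mul,
      Matrix.mul_one]
  have hto : ∀ X : HG l F, ∃ Y : Cfsg.SU n F q, (Y.1 : Matrix (Fin n) (Fin n) F) = P * HMat X * Q := by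
    intro X
    have hd : (P * HMat X * Q).det = 1 := by
      rw [hdet]; exact congrArg Units.val X.2.2
    refine ⟨⟨⟨P * HMat X * Q, hd⟩, (preserves_iff hst _).mpr ?_⟩, rfl⟩
    show (P * HMat X * Q)ᴴ * (P * HMat X * Q) = 1
    calc (P * HMat X * Q)ᴴ * (P * HMat X * Q) = Qᴴ * ((HMat X)ᴴ * (Pᴴ * P) * HMat X) * Q := by
          simp only [conjTranspose_mul, Matrix.mul_assoc]
      _ = 1 := by rw [hPP, Matrix.mul_smul, Matrix.smul_mul, HMat_preserves, hQQ]
  choose φ hφ using hto
  have hmul : ∀ X Y, φ (X * Y) = φ X * φ Y := fun X Y => by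
    refine Subtype.ext (Subtype.ext ?_)
    show ((φ (X * Y)).1 : Matrix (Fin n) (Fin n) F) = (φ X).1 * (φ Y).1
    rw [hφ, hφ, hφ, HMat_mul, show P * HMat X * Q * (P * HMat Y * Q) = P * HMat X * (Q * P) * HMat Y * Q by
      simp only [Matrix.mul_assoc], hQP, Matrix.mul_one]
    simp only [Matrix.mul_assoc]
  have hinj : Function.Injective φ := fun X Y e => by
    refine HMat_inj ?_
    have := congrArg (fun Z : Cfsg.SU n F q => Q * (Z.1 : Matrix (Fin n) (Fin n) F) * P) e
    simpa only [hφ, hback] using this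
  have hsurj : Function.Surjective φ := fun Y => by
    set N : Matrix (Fin n) (Fin n) F := Y.1.1
    have hN : Nᴴ * N = 1 := (preserves_iff hst N).mp Y.2
    have hd : (Q * N * P).det = 1 := by
      rw [← hdet (Q * N * P), hforth]; exact Y.1.2
    have h2 : (Q * N * P)ᴴ * J (Fin l) F * (Q * N * P) = J (Fin l) F := by
      have : δ • ((Q * N * P)ᴴ * J (Fin l) F * (Q * N * P)) = δ • J (Fin l) F := by
        rw [← Matrix.smul_mul, ← Matrix.mul_smul, ← hPP]
        calc (Q * N * P)ᴴ * (Pᴴ * P) * (Q * N * P) = Pᴴ * (Nᴴ * ((P * Q)ᴴ * (P * Q)) * N) * P := by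
              simp only [conjTranspose_mul, Matrix.mul_assoc]
          _ = Pᴴ * P := by rw [hPQ, conjTranspose_one, Matrix.mul_one, Matrix.mul_one, hN, Matrix.mul_one]
      exact (smul_right_inj hδ).mp this
    set M := Q * N * P
    have h1 : (-J (Fin l) F * Mᴴ * J (Fin l) F) * M = 1 := by
      rw [show (-J (Fin l) F * Mᴴ * J (Fin l) F) * M = -J (Fin l) F * (Mᴴ * J (Fin l) F * M) by
        simp only [Matrix.mul_assoc], h2, Matrix.neg_mul, J_squared, neg_neg]
    have h3 := mul_eq_one_comm.mp h1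
    have hM : M * J (Fin l) F * Mᴴ = J (Fin l) F := by
      calc M * J (Fin l) F * Mᴴ
          = (M * (-J (Fin l) F * Mᴴ * J (Fin l) F)) * J (Fin l) F := by
            simp only [Matrix.mul_assoc, J_squared, Matrix.mul_neg, Matrix.neg_mul, Matrix.mul_one, neg_neg]
        _ = J (Fin l) F := by rw [h3, Matrix.one_mul]
    refine ⟨⟨GeneralLinearGroup.mkOfDetNeZero M (by rw [hd]; exact one_ne_zero), hM, Units.ext hd⟩, ?_⟩
    refine Subtype.ext (Subtype.ext ?_)
    show ((φ _).1 : Matrix (Fin n) (Fin n) F) = N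
    rw [hφ]
    exact hforth N
  let e : HG l F ≃* Cfsg.SU n F q := MulEquiv.ofBijective (MonoidHom.mk' φ hmul) ⟨hinj, hsurj⟩
  refine ⟨⟨e⟩, ?_⟩
  rw [eq_top_iff]
  intro X _
  have hX : e X ∈ Subgroup.closure {A : Cfsg.SU n F q | ∃ (v : Fin n → F) (c : F), Unitary.herm q v v = 0 ∧
      ((A : Matrix.SpecialLinearGroup (Fin n) F) : Matrix (Fin n) (Fin n) F) =
        unitaryTransvection n q v c} := by
    rw [Unitary.closure_transvections hF h32]; trivial
  suffices h : e.symm (e X) ∈ Subgroup.closure {X : HG l F | ∃ v t, Isot v ∧ HMat X = tvMat v t} by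
    simpa using h
  refine Subgroup.closure_induction (p := fun Y _ => e.symm Y ∈ _) ?_ ?_ ?_ ?_ hX
  · rintro A ⟨v, c, hv, hA⟩
    rcases eq_or_ne v 0 with rfl | hv0
    · have : A = 1 := Subtype.ext (Subtype.ext (by simp [hA, unitaryTransvection]))
      rw [this, map_one]; exact one_mem _
    have hc : c + c ^ q = 0 := Unitary.trace_zero_of_preserves hF hv0 hv fun x y => by
      rw [← hA]; exact A.2 x y
    refine Subgroup.subset_closure ⟨Q *ᵥ v, ⟨c * δ, mem_Kf.mpr ?_⟩, ?_, ?_⟩
    · rw [star_mul', hδt, hst, eq_neg_of_add_eq_zero_right hc, neg_mul_neg]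
    · show dual (Q *ᵥ v) ⬝ᵥ (Q *ᵥ v) = 0
      have : δ * (dual (Q *ᵥ v) ⬝ᵥ (Q *ᵥ v)) = 0 := by
        rw [dual, ← smul_eq_mul, ← smul_dotProduct, ← vecMul_smul, ← hPP, star_mulVec, dotProduct_mulVec,
          vecMul_vecMul, vecMul_vecMul, show Qᴴ * (Pᴴ * P * Q) = (P * Q)ᴴ * (P * Q) by
            simp only [conjTranspose_mul, Matrix.mul_assoc], hPQ, conjTranspose_one, Matrix.one_mul, vecMul_one,
          ← herm_eq_star hst]
        exact hv
      exact (mul_eq_zero.mp this).resolve_left hδ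
    · have hY : HMat (e.symm A) = Q * unitaryTransvection n q v c * P := by
        have h := hφ (e.symm A)
        rw [show φ (e.symm A) = A from e.apply_symm_apply A, hA] at h
        rw [h, hback]
      have hstar : (fun j => v j ^ q) = star v := funext fun j => (hst _).symm
      rw [hY, unitaryTransvection, hstar, tvMat, Matrix.mul_add, Matrix.mul_one, Matrix.add_mul, hQP, Matrix.mul_smul,
        Matrix.smul_mul, mul_vecMulVec, vecMulVec_mul]
      congr 1
      show c • _ = (c * δ) • vecMulVec (Q *ᵥ v) (dual (Q *ᵥ v))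
      rw [mul_smul]
      congr 1
      rw [← vecMulVec_smul, dual, ← vecMul_smul, ← hPP, star_mulVec, vecMul_vecMul, ← Matrix.mul_assoc,
        ← conjTranspose_mul, hPQ, conjTranspose_one, Matrix.one_mul]
  · rw [map_one]; exact one_mem _
  · intro x y _ _ hx hy; rw [map_mul]; exact mul_mem hx hy
  · intro x _ hx; rw [map_inv]; exact inv_mem hx

end Cfsg.Agent.KSG55.Herm
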