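import Cfsg.Agent.KSG55.Sp.Core

set_option autoImplicit false
set_option linter.unusedSectionVars false

/-! Invertible matrices with a determinant fixed by the conjugation of the field. -/

namespace Cfsg.Agent.KSG55.Herm

open Matrix Cfsg.Agent.KSG55.Sp

variable (F : Type*) [Field F] [StarRing F]

/-- The fixed field. -/
def Kf : Subfield F := RingHom.eqLocusField (starRingEnd F) (RingHom.id F)

variable {F}

theorem mem_Kf {x : F} : x ∈ Kf F ↔ star x = x := Iff.rfl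

theorem star_coeK (x : Kf F) : star (x : F) = x := x.2

/-- A unit of the fixed field as a unit. -/
def liftK : (Kf F)ˣ →* Fˣ := Units.map ((Kf F).subtype : Kf F →* F)

theorem liftK_coe (d : (Kf F)ˣ) : (liftK d : F) = ((d : Kf F) : F) := rfl

theorem liftK_inj : Function.Injective (liftK (F := F)) := fun _ _ h =>
  Units.ext (Subtype.ext (congrArg Units.val h))

theorem mem_range_liftK {d : Fˣ} : d ∈ (liftK (F := F)).range ↔ star (d : F) = d := by
  refine ⟨fun ⟨x, hx⟩ => by rw [← hx]; exact star_coeK _, fun h => ?_⟩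
  exact ⟨Units.mk0 ⟨d, mem_Kf.mpr h⟩ fun e => d.ne_zero (congrArg Subtype.val e), Units.ext rfl⟩

/-- The norm into the fixed field. -/
def normK : Fˣ →* (Kf F)ˣ where
  toFun z := Units.mk0 ⟨(z : F) * star (z : F), mem_Kf.mpr (by rw [star_mul', star_star, mul_comm])⟩
    fun e => mul_ne_zero z.ne_zero (star_ne_zero.mpr z.ne_zero) (congrArg Subtype.val e)
  map_one' := Units.ext (Subtype.ext (by simp))
  map_mul' a b := Units.ext (Subtype.ext (by
    show ((a : F) * b) * star ((a : F) * b) = (a * star (a : F)) * (b * star (b : F))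
    rw [star_mul']; ring))

theorem normK_coe (z : Fˣ) : ((normK z : Kf F) : F) = (z : F) * star (z : F) := rfl

variable (F)

/-- The Levi factor. -/
def LG (n : ℕ) : Subgroup (GL (Fin n) F) := (liftK (F := F)).range.comap GeneralLinearGroup.det

variable {F} {n : ℕ}

theorem mem_LG {A : GL (Fin n) F} :
    A ∈ LG F n ↔ star ((A : Matrix (Fin n) (Fin n) F).det) = (A : Matrix (Fin n) (Fin n) F).det :=
  mem_range_liftK

/-- The matrix of an element. -/
abbrev LM (A : LG F n) : Matrix (Fin n) (Fin n) F := ((A : GL (Fin n) F) : Matrix (Fin n) (Fin n) F)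

theorem LM_mul (A B : LG F n) : LM (A * B) = LM A * LM B := rfl

theorem LM_one : LM (1 : LG F n) = 1 := rfl

theorem LM_inj {A B : LG F n} (h : LM A = LM B) : A = B := Subtype.ext (Units.ext h)

theorem LM_inv_mul (A : LG F n) : LM A⁻¹ * LM A = 1 := by rw [← LM_mul, inv_mul_cancel]; rfl

theorem LM_mul_inv (A : LG F n) : LM A * LM A⁻¹ = 1 := by rw [← LM_mul, mul_inv_cancel]; rfl

/-- The determinant. -/
noncomputable def detK : LG F n →* (Kf F)ˣ :=
  (MonoidHom.ofInjective (liftK_inj (F := F))).symm.toMonoidHom.comp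
    ((GeneralLinearGroup.det.comp (LG F n).subtype).codRestrict _ fun A => A.2)

theorem liftK_detK (A : LG F n) : liftK (detK A) = GeneralLinearGroup.det (A : GL (Fin n) F) :=
  congrArg Subtype.val ((MonoidHom.ofInjective (liftK_inj (F := F))).apply_symm_apply
    (⟨GeneralLinearGroup.det (A : GL (Fin n) F), A.2⟩ : (liftK (F := F)).range))

theorem detK_eq {A : LG F n} {d : (Kf F)ˣ}
    (h : (LM A).det = ((d : Kf F) : F)) : detK A = d :=
  liftK_inj ((liftK_detK A).trans (Units.ext h))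

/-! Constructors. -/

theorem det_rk1 (u w : Fin n → F) (h : w ⬝ᵥ u = 0) : (rk1 u w h : Matrix (Fin n) (Fin n) F).det = 1 := by
  rw [rk1_coe, vecMulVec_eq Unit, det_one_add_replicateCol_mul_replicateRow, h, add_zero]

/-- A rank one element. -/
def rg (u w : Fin n → F) (h : w ⬝ᵥ u = 0) : LG F n :=
  ⟨rk1 u w h, mem_LG.mpr (by rw [det_rk1, star_one])⟩

theorem rg_coe (u w : Fin n → F) (h : w ⬝ᵥ u = 0) : LM (rg u w h) = 1 + vecMulVec u w := rfl

/-- An elementary element. -/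
noncomputable def eg {i j : Fin n} (h : i ≠ j) (c : F) : LG F n :=
  rg (Pi.single i c) (bv j) (by simp [h.symm])

theorem eg_val {i j : Fin n} (h : i ≠ j) (c : F) : (eg h c : GL (Fin n) F) = egl h c := rfl

theorem eg_mul {i j : Fin n} (h : i ≠ j) (c c' : F) : eg h c * eg h c' = eg h (c + c') :=
  Subtype.ext (egl_mul h c c')

theorem eg_zero {i j : Fin n} (h : i ≠ j) : eg h (0 : F) = 1 := Subtype.ext (egl_zero h)

/-- A permutation element. -/
noncomputable def pg : Equiv.Perm (Fin n) →* LG F n where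
  toFun s := ⟨pgl s, mem_LG.mpr (by
    rw [pgl_coe, det_permutation, Equiv.Perm.sign_inv]
    rcases Int.units_eq_one_or (Equiv.Perm.sign s) with e | e <;> simp [e])⟩
  map_one' := Subtype.ext (map_one pgl)
  map_mul' a b := Subtype.ext (map_mul pgl a b)

theorem pg_val (s : Equiv.Perm (Fin n)) : ((pg s : LG F n) : GL (Fin n) F) = pgl s := rfl

theorem detK_eg {i j : Fin n} (h : i ≠ j) (c : F) : detK (eg h c) = 1 :=
  detK_eq (by rw [LM, eg, rg, det_rk1]; rfl)

/-- A diagonal element with an entry in the fixed field. -/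
def dK (i : Fin n) : (Kf F)ˣ →* LG F n where
  toFun d := ⟨dgl i (liftK d), mem_LG.mpr (by rw [dgl_det]; exact star_coeK _)⟩
  map_one' := Subtype.ext (by simp)
  map_mul' a b := Subtype.ext (by simp)

theorem dK_val (i : Fin n) (d : (Kf F)ˣ) : (dK i d : GL (Fin n) F) = dgl i (liftK d) := rfl

theorem detK_dK (i : Fin n) (d : (Kf F)ˣ) : detK (dK i d) = d := detK_eq (dgl_det i _)

theorem dgl_commute (i j : Fin n) (a b : Fˣ) : Commute (dgl i a) (dgl j b) := by
  apply Units.ext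
  show (dgl i a : Matrix (Fin n) (Fin n) F) * dgl j b = (dgl j b : Matrix (Fin n) (Fin n) F) * dgl i a
  rw [dgl_coe, dgl_coe, diagonal_mul_diagonal, diagonal_mul_diagonal]
  simp only [mul_comm]

/-- A diagonal element of determinant one. -/
def dd (i j : Fin n) : Fˣ →* LG F n where
  toFun z := ⟨dgl i z * dgl j z⁻¹, mem_LG.mpr (by rw [Units.val_mul, det_mul, dgl_det, dgl_det]; simp)⟩
  map_one' := Subtype.ext (by simp)
  map_mul' a b := Subtype.ext (by
    show dgl i (a * b) * dgl j (a * b)⁻¹ = dgl i a * dgl j a⁻¹ * (dgl i b * dgl j b⁻¹)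
    rw [map_mul, show (a * b)⁻¹ = a⁻¹ * b⁻¹ by rw [_root_.mul_inv_rev, mul_comm], map_mul]
    calc dgl i a * dgl i b * (dgl j a⁻¹ * dgl j b⁻¹)
        = dgl i a * (dgl i b * dgl j a⁻¹) * dgl j b⁻¹ := by group
      _ = dgl i a * (dgl j a⁻¹ * dgl i b) * dgl j b⁻¹ := by rw [(dgl_commute i j b a⁻¹).eq]
      _ = _ := by group)

theorem dd_val (i j : Fin n) (z : Fˣ) : (dd i j z : GL (Fin n) F) = dgl i z * dgl j z⁻¹ := rfl

/-- A scalar from the fixed field. -/
noncomputable def scK (d : (Kf F)ˣ) : LG F n :=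
  ⟨GeneralLinearGroup.scalar (Fin n) (liftK d), mem_LG.mpr (by
    rw [GeneralLinearGroup.coe_scalar, Matrix.scalar_apply, det_diagonal, Finset.prod_const, star_pow, liftK_coe,
      star_coeK])⟩

theorem scK_mulVec (d : (Kf F)ˣ) (v : Fin n → F) : LM (scK d) *ᵥ v = ((d : Kf F) : F) • v := by
  show ((GeneralLinearGroup.scalar (Fin n) (liftK d) : GL (Fin n) F) : Matrix (Fin n) (Fin n) F) *ᵥ v = _
  rw [GeneralLinearGroup.coe_scalar, Matrix.scalar_apply, ← smul_one_eq_diagonal, smul_mulVec, one_mulVec, liftK_coe]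

theorem detK_pg_zero_swap {m : ℕ} : detK (pg (Equiv.swap (0 : Fin (m + 2)) 1) : LG F (m + 2)) = -1 := by
  refine detK_eq ?_
  rw [show LM (pg (Equiv.swap (0 : Fin (m + 2)) 1) : LG F (m + 2)) = (Equiv.swap (0 : Fin (m + 2)) 1)⁻¹.permMatrix F from rfl,
    det_permutation, Equiv.Perm.sign_inv, Equiv.Perm.sign_swap Fin.zero_ne_one]
  simp

variable {m : ℕ}

local notation "GLn" => GL (Fin (m + 2)) F
local notation "Vn" => Fin (m + 2) → F
local notation "Mn" => Matrix (Fin (m + 2)) (Fin (m + 2)) F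

omit [StarRing F] in
theorem inv_dgl_det_mul (A : GLn) :
    ((A * dgl 1 (GeneralLinearGroup.det A)⁻¹ : GLn) : Mn).det = 1 := by
  rw [Units.val_mul, det_mul, dgl_det]
  exact (GeneralLinearGroup.det A).mul_inv

omit [StarRing F] in
theorem dgl1_bv0 (d : Fˣ) : ((dgl (1 : Fin (m + 2)) d : GLn) : Mn) *ᵥ bv 0 = bv 0 := by
  rw [Glue.dgl_bv, if_neg Fin.zero_ne_one]

theorem exists_colL0 {v : Vn} (hv : v ≠ 0) : ∃ A : LG F (m + 2), LM A *ᵥ bv 0 = v := by
  obtain ⟨A, hA⟩ := Sp.exists_col0 hv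
  refine ⟨⟨A * dgl 1 (GeneralLinearGroup.det A)⁻¹, mem_LG.mpr (by rw [inv_dgl_det_mul, star_one])⟩, ?_⟩
  show ((A * dgl 1 (GeneralLinearGroup.det A)⁻¹ : GLn) : Mn) *ᵥ bv 0 = v
  rw [Units.val_mul, ← mulVec_mulVec, dgl1_bv0, hA]

theorem exists_colL1 {v : Vn} {i : Fin (m + 2)} (hi : i ≠ 0) (hvi : v i ≠ 0) :
    ∃ (A : LG F (m + 2)) (z : Fˣ), LM A *ᵥ bv 0 = bv 0 ∧ LM A *ᵥ bv 1 = (z : F) • v ∧
      (v 0 = 0 → bv 0 ᵥ* LM A = bv 0) := by
  obtain ⟨A, h0, h1, hr⟩ := Sp.exists_col1 hi hvi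
  refine ⟨⟨A * dgl 1 (GeneralLinearGroup.det A)⁻¹, mem_LG.mpr (by rw [inv_dgl_det_mul, star_one])⟩,
    (GeneralLinearGroup.det A)⁻¹, ?_, ?_, fun hv => ?_⟩
  · show ((A * dgl 1 _ : GLn) : Mn) *ᵥ bv 0 = _
    rw [Units.val_mul, ← mulVec_mulVec, dgl1_bv0, h0]
  · show ((A * dgl 1 _ : GLn) : Mn) *ᵥ bv 1 = _
    rw [Units.val_mul, ← mulVec_mulVec, Glue.dgl_bv, if_pos rfl, mulVec_smul, h1]
  · show bv 0 ᵥ* ((A * dgl 1 _ : GLn) : Mn) = _
    rw [Units.val_mul, ← vecMul_vecMul, hr hv, ← mulVec_transpose, dgl_transpose, dgl1_bv0]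

theorem exists_pairL {v w : Vn} (hv : v ≠ 0) (h : ∀ c : F, w ≠ c • v) :
    ∃ (A : LG F (m + 2)) (z : Fˣ), LM A *ᵥ bv 0 = v ∧ LM A *ᵥ bv 1 = (z : F) • w := by
  obtain ⟨A, h0, h1⟩ := Sp.exists_pair_cols hv h
  refine ⟨⟨A * dgl 1 (GeneralLinearGroup.det A)⁻¹, mem_LG.mpr (by rw [inv_dgl_det_mul, star_one])⟩,
    (GeneralLinearGroup.det A)⁻¹, ?_, ?_⟩
  · show ((A * dgl 1 _ : GLn) : Mn) *ᵥ bv 0 = _
    rw [Units.val_mul, ← mulVec_mulVec, dgl1_bv0, h0]
  · show ((A * dgl 1 _ : GLn) : Mn) *ᵥ bv 1 = _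
    rw [Units.val_mul, ← mulVec_mulVec, Glue.dgl_bv, if_pos rfl, mulVec_smul, h1]

end Cfsg.Agent.KSG55.Herm
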