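import Cfsg.Agent.KSG55.Herm.PresMain
import Cfsg.Agent.KSG55.Herm.Iso
import Cfsg.Agent.KSG55.Sp.Cases
import Cfsg.Agent.S2278
import Cfsg.Agent.S2279

set_option autoImplicit false
set_option linter.style.haveILetI false

/-! Presentations of unitary groups of even dimension. -/

namespace Cfsg.Agent.KSG55.Herm

open Matrix Cfsg.Agent.KSG55.Lin Cfsg.Agent.KSG55.Pres
open Cfsg.Agent.Unitary (conjHom conjHom_apply)

/-- Two generators of a special linear group with few relations. -/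
theorem sl_pair {F : Type*} [Field F] [Fintype F] {m : ℕ} :
    ∃ u v : SpecialLinearGroup (Fin (m + 2)) F, PresOn ![u, v] 27 := by
  obtain ⟨a, ha⟩ := IsCyclic.exists_generator (α := Fˣ)
  by_cases h4 : 4 ≤ m + 2
  · obtain ⟨g, hg⟩ := SLn.slots_seven (F := F) h4
    obtain ⟨⟨u, v, -, -, huv⟩, -⟩ := Cfsg.Agent.S2279.result (F := F) (m + 2) h4
    exact ⟨u, v, (hg.pair u v huv).mono (by norm_num)⟩
  obtain rfl | rfl : m = 0 ∨ m = 1 := by omega
  · obtain ⟨u, v, huv⟩ := Lin.exists_pair ha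
    exact ⟨u, v, ((Sp.sl2_seven ha).pair u v huv).mono (by norm_num)⟩
  · obtain ⟨u, g, -, -, huv⟩ := Cfsg.Agent.S2278.result (F := F)
    exact ⟨u, g * u * g⁻¹, ((presOn_SL3 ha).pair u _ huv).mono (by norm_num)⟩

/-- Even dimension. -/
theorem su_even {F : Type*} [Field F] [Fintype F] {q : ℕ} (hF : Fintype.card F = q ^ 2) {n l : ℕ}
    (hn : n = 2 * l) (hl : 2 ≤ l) :
    ∃ g : Fin 5 → Cfsg.SU n F q, PresOn g 58 := by
  classical
  letI := starRingOf hF
  have hst : ∀ x : F, star x = x ^ q := fun x => conjHom_apply hF x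
  obtain ⟨⟨e⟩, htv⟩ := exists_equiv_SU (l := l) hF hst hn (by omega)
  obtain ⟨ρ, hρg⟩ := IsCyclic.exists_monoid_generator (α := Fˣ)
  have hord : orderOf ρ = q ^ 2 - 1 := by
    rw [orderOf_eq_card_of_forall_mem_zpowers fun x => mem_powers_iff_mem_zpowers.mp (hρg x), Nat.card_units,
      Nat.card_eq_fintype_card, hF]
  have hρ : star (ρ : F) ≠ (ρ : F) := by
    intro e
    have hq := Unitary.two_le_q hF
    have h1 : ρ ^ (q - 1) = 1 := Units.ext (by
      rw [Units.val_pow_eq_pow_val, Unitary.pow_q_sub_one hF ρ.ne_zero, ← hst, e, div_self ρ.ne_zero,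
        Units.val_one])
    have h2 := Nat.le_of_dvd (by omega) (orderOf_dvd_of_pow_eq_one h1)
    rw [hord] at h2
    have h3 : 2 * q ≤ q ^ 2 := by rw [sq]; exact Nat.mul_le_mul_right q hq
    omega
  have genK : ∀ x : (Kf F)ˣ, x ∈ Submonoid.powers (normK ρ) := by
    intro x
    have hx : ((x : Kf F) : F) ^ q = ((x : Kf F) : F) := by rw [← hst]; exact star_coeK _
    obtain ⟨a, ha⟩ := Unitary.exists_norm_eq hF hx
    have ha0 : a ≠ 0 := by
      rintro rfl
      rw [zero_pow (Nat.succ_ne_zero q)] at ha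
      exact x.ne_zero (Subtype.ext ha.symm)
    obtain ⟨k, hk⟩ := hρg (Units.mk0 a ha0)
    refine ⟨k, ?_⟩
    show normK ρ ^ k = x
    rw [← map_pow, show ρ ^ k = Units.mk0 a ha0 from hk]
    refine Units.ext (Subtype.ext ?_)
    rw [normK_coe, Units.val_mk0, hst, ← pow_succ', ha]
  obtain ⟨m, rfl⟩ : ∃ m, l = m + 2 := ⟨l - 2, by omega⟩
  obtain ⟨u, v, huv⟩ := sl_pair (F := F) (m := m)
  haveI : Fintype (Kf F) := Fintype.ofFinite _
  have h2 := Sp.sl2_seven (F := Kf F) (a := normK ρ) fun x => mem_powers_iff_mem_zpowers.mp (genK x)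
  have h := presOn_glue hρ hρg genK htv huv h2
  exact ⟨_, h.map e⟩

end Cfsg.Agent.KSG55.Herm
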