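import Cfsg.Agent.KSG55.Herm.Inj

set_option autoImplicit false
set_option linter.unusedSectionVars false

/-! The relations as a list of pairs, and their validity in the unitary group. -/

namespace Cfsg.Agent.KSG55.Herm

open Matrix Cfsg.Agent.KSG55.Sp Cfsg.Agent.KSG55.Lin

variable {F : Type*} [Field F] [StarRing F] {m : ℕ}

local notation "GLn" => GL (Fin (m + 2)) F
local notation "LGn" => LG F (m + 2)
local notation "Vn" => Fin (m + 2) → F
local notation "Mn" => Matrix (Fin (m + 2)) (Fin (m + 2)) F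
local notation "K" => Kf F

section

variable {H : Type*} [Group H] (θ : SpecialLinearGroup (Fin (m + 2)) F → H)
  (κ : SpecialLinearGroup (Fin 2) (Kf F) → H) (ρ : Fˣ) (hρ : star (ρ : F) ≠ (ρ : F))

/-- A sum of two off diagonal sides. -/
noncomputable def threeL (k : Fin 3) : H :=
  Ve θ κ (dd 0 1 (ρ ^ (k : ℕ)) * colL (((ρ ^ (k : ℕ) : Fˣ) : F) • bv 1 + bv 2)) 1 *
    κ (mU (nK (((ρ ^ (k : ℕ) : Fˣ) : F)))) * Ve θ κ sw01 1 * Ve θ κ (pg (Equiv.swap 0 2)) 1

/-- The other side. -/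
noncomputable def threeR (k : Fin 3) : H :=
  Ve θ κ (colC (ρ ^ (k : ℕ))) 1 * Ve θ κ (dd 0 1 (ρ ^ (k : ℕ)) * colL (bv 2)) 1 *
    Ve θ κ (pg (Equiv.swap 0 1 * Equiv.swap 1 2) * x10 1) 1

/-- The gluing relations other than the action of the torus. -/
noncomputable def relPairs : List (H × H) :=
  [(γe θ κ (dd 0 1 ρ) * κ (mU 1) * (γe θ κ (dd 0 1 ρ))⁻¹, κ (mU ((normK ρ : Kˣ) : K))),
    cp (γe θ κ (x01 (cs ρ 0 : F))) (κ (mU 1)),
    cp (γe θ κ (x01 (cs ρ 1 : F))) (κ (mU 1)),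
    cp (γe θ κ (pg (cyc m))) (κ (mU 1)),
    cp (γe θ κ (dK 1 (normK ρ))) (κ (mU 1)),
    cp (γe θ κ (pg (cyc m))) (κ mT),
    cp (γe θ κ (dK 1 (normK ρ))) (κ mT),
    (κ mT * γe θ κ (dd 0 1 ρ) * (κ mT)⁻¹, γe θ κ (tz ρ)),
    cp (κ (mU 1)) (Ve θ κ sw01 1),
    cp (κ mT) (Ve θ κ sw01 1),
    cp (κ mT) (γe θ κ sw01 * κ mT * (γe θ κ sw01)⁻¹),
    (κ mT * γe θ κ (x10 (cs ρ 0 : F)) * (κ mT)⁻¹, Λw θ κ ρ hρ (-star (cs ρ 0 : F))),
    (κ mT * γe θ κ (x10 (cs ρ 1 : F)) * (κ mT)⁻¹, Λw θ κ ρ hρ (-star (cs ρ 1 : F))),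
    (γe θ κ (dd 0 1 ρ) * Φw θ κ (cs ρ 0) 1 * (γe θ κ (dd 0 1 ρ))⁻¹,
      Λw θ κ ρ hρ ((ρ : F) / star (ρ : F) * (cs ρ 0 : F))),
    (γe θ κ (dd 0 1 ρ) * Φw θ κ (cs ρ 1) 1 * (γe θ κ (dd 0 1 ρ))⁻¹,
      Λw θ κ ρ hρ ((ρ : F) / star (ρ : F) * (cs ρ 1 : F)))] ++
  if hm : 1 ≤ m then
    [cp (γe θ κ (eg (one_ne_two_fin hm) (cs ρ 0 : F))) (κ (mU 1)),
      cp (γe θ κ (eg (one_ne_two_fin hm) (cs ρ 1 : F))) (κ (mU 1)),
      cp (γe θ κ (eg (one_ne_two_fin hm) (cs ρ 0 : F))) (κ mT),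
      cp (γe θ κ (eg (one_ne_two_fin hm) (cs ρ 1 : F))) (κ mT),
      (threeL θ κ ρ 0, threeR θ κ ρ 0), (threeL θ κ ρ 1, threeR θ κ ρ 1), (threeL θ κ ρ 2, threeR θ κ ρ 2)]
  else []

theorem relPairs_length : (relPairs θ κ ρ hρ).length ≤ 22 := by
  unfold relPairs
  by_cases hm : 1 ≤ m <;> simp [hm]

theorem rels_of_pairs (hc : ∀ B, κ (mH (normK ρ)) * θ B * (κ (mH (normK ρ)))⁻¹ = θ (conjD (normK ρ) B))
    (h : ∀ p ∈ relPairs θ κ ρ hρ, p.1 = p.2) : Rels θ κ ρ hρ := by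
  unfold relPairs at h
  simp only [List.cons_append, List.nil_append, List.forall_mem_cons] at h
  obtain ⟨h1, h2, h3, h4, h5, h6, h7, h8, h9, h10, h11, h12, h13, h14, h15, hrest⟩ := h
  refine ⟨hc, h1, Fin.forall_fin_two.mpr ⟨h2, h3⟩, h4, h5, fun hm hne => ?_, h6, h7, fun hm hne => ?_, h8, h9, h10,
    h11, Fin.forall_fin_two.mpr ⟨h12, h13⟩, Fin.forall_fin_two.mpr ⟨h14, h15⟩, fun hm k => ?_⟩
  all_goals
    rw [dif_pos hm] at hrest
    simp only [List.forall_mem_cons] at hrest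
    obtain ⟨a1, a2, a3, a4, a5, a6, a7, -⟩ := hrest
  · exact Fin.forall_fin_two.mpr ⟨a1, a2⟩
  · exact Fin.forall_fin_two.mpr ⟨a3, a4⟩
  · fin_cases k <;> assumption

theorem pairs_of_rels (M : Rels θ κ ρ hρ) : ∀ p ∈ relPairs θ κ ρ hρ, p.1 = p.2 := by
  intro p hp
  unfold relPairs at hp
  by_cases hm : 1 ≤ m
  · rw [dif_pos hm] at hp
    simp only [List.cons_append, List.nil_append, List.mem_cons, List.not_mem_nil, or_false] at hp
    rcases hp with rfl | rfl | rfl | rfl | rfl | rfl | rfl | rfl | rfl | rfl | rfl | rfl | rfl | rfl | rfl | rfl | rfl |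
      rfl | rfl | rfl | rfl | rfl
    exacts [M.uS, M.uX 0, M.uX 1, M.uC, M.uD, M.tC, M.tD, M.tS, M.uu, M.tu, M.tt, M.ty 0, M.ty 1, M.lin 0, M.lin 1,
      M.uX' hm _ 0, M.uX' hm _ 1, M.tX' hm _ 0, M.tX' hm _ 1, M.three hm 0, M.three hm 1, M.three hm 2]
  · rw [dif_neg hm] at hp
    simp only [List.cons_append, List.nil_append, List.mem_cons, List.not_mem_nil, or_false] at hp
    rcases hp with rfl | rfl | rfl | rfl | rfl | rfl | rfl | rfl | rfl | rfl | rfl | rfl | rfl | rfl | rfl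
    exacts [M.uS, M.uX 0, M.uX 1, M.uC, M.uD, M.tC, M.tD, M.tS, M.uu, M.tu, M.tt, M.ty 0, M.ty 1, M.lin 0, M.lin 1]

theorem map_γe {H' : Type*} [Group H'] (f : H →* H') (A : LGn) :
    f (γe θ κ A) = γe (fun x => f (θ x)) (fun x => f (κ x)) A := map_mul f _ _

theorem map_Ve {H' : Type*} [Group H'] (f : H →* H') (A : LGn) (t : K) :
    f (Ve θ κ A t) = Ve (fun x => f (θ x)) (fun x => f (κ x)) A t := by
  simp only [Ve, map_mul, map_inv, map_γe]

theorem map_Φw {H' : Type*} [Group H'] (f : H →* H') (c : Fˣ) (t : K) :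
    f (Φw θ κ c t) = Φw (fun x => f (θ x)) (fun x => f (κ x)) c t := by
  simp only [Φw, map_mul, map_Ve]

theorem map_relPairs {H' : Type*} [Group H'] (f : H →* H') :
    (relPairs θ κ ρ hρ).map (fun p => (f p.1, f p.2)) = relPairs (fun x => f (θ x)) (fun x => f (κ x)) ρ hρ := by
  unfold relPairs
  by_cases hm : 1 ≤ m <;> simp [hm, map_γe, map_Ve, map_Φw, Λw, threeL, threeR]

end

/-- The map into the model. -/
noncomputable def θM : SpecialLinearGroup (Fin (m + 2)) F →* HG (m + 2) F := gM.comp ofSL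

local notation "θ'" => (θM (F := F) (m := m))
local notation "κ'" => (fun M => (kM M : HG (m + 2) F))

theorem γe_model (A : LGn) : γe θ' κ' A = gM A := by
  show gM (ofSL (toSL A)) * kM (mH (detK A)) = _
  rw [kM_mH, ← map_mul, ofSL_toSL, inv_mul_cancel_right]

theorem kU_model (t : K) : (kM (mU t) : HG (m + 2) F) = sM (sq1 (bv 0) t) (sq1_herm _ _) := by
  rw [kM_mU]; exact sM_congr _ _ (sq1_bv0 t)

theorem Ve_model (A : LGn) (t : K) {v : Vn} (hv : LM A *ᵥ bv 0 = v) :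
    Ve θ' κ' A t = sM (sq1 v t) (sq1_herm v t) := by
  rw [Ve, γe_model, kU_model, gM_conj_sM]
  exact sM_congr _ _ (by rw [sq1_conj, hv])

/-- The off diagonal matrix. -/
def eM (y : F) : Mn := Matrix.single 0 1 y + Matrix.single 1 0 (star y)

theorem eM_herm (y : F) : (eM y : Mn)ᴴ = eM y := by
  rw [eM, conjTranspose_add, conjTranspose_single, conjTranspose_single, star_star]
  exact add_comm _ _

theorem eM_sy (a b : F) : sy (a • bv 0 : Vn) (b • bv 1) = eM (a * star b) := by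
  have hs : ∀ (k l : Fin (m + 2)) (c : F), Matrix.single k l c = c • vecMulVec (bv k) (bv l) := fun k l c => by
    ext a b; simp [vecMulVec_apply, single_apply, bv, Pi.single_apply, ite_and, eq_comm]; split_ifs <;> simp
  simp only [sy, eM, hs, star_smul, star_bv, smul_vecMulVec, vecMulVec_smul, smul_smul, star_mul', star_star]
  rw [mul_comm (star b) a]

theorem x10_col (c : F) : LM (x10 c : LGn) *ᵥ bv 0 = bv 0 + c • bv 1 := by
  rw [x10, eg, rg_coe, add_mulVec, one_mulVec, vecMulVec_mulVec]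
  funext a
  simp [bv, Pi.single_apply]

theorem colC_col [Finite F] (c : Fˣ) : LM (colC c : LGn) *ᵥ bv 0 = (c : F) • bv 0 + bv 1 := by
  rw [colC, LM_mul, ← mulVec_mulVec, x10_col, mulVec_add, mulVec_smul, Glue.dd_bv0, Glue.dd_bv1, smul_smul,
    Units.mul_inv, one_smul]

theorem sw01_col : LM (sw01 : LGn) *ᵥ bv 0 = bv 1 := by
  show ((pgl (Equiv.swap 0 1) : GLn) : Mn) *ᵥ bv 0 = _
  rw [pgl_bv, Equiv.swap_apply_left]

theorem Φw_model [Finite F] (c : Fˣ) (t : K) : Φw θ' κ' c t = sM (eM ((c : F) * (t : F))) (eM_herm _) := by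
  show Ve θ' κ' (colC c) t * kM (mU (-(nK (c : F) * t))) * Ve θ' κ' sw01 (-t) = _
  rw [Ve_model _ _ (colC_col c), kU_model, Ve_model _ _ sw01_col, sM_mul, sM_mul]
  refine sM_congr _ _ ?_
  have e : ((t : F) • sy ((c : F) • bv 0 : Vn) ((1 : F) • bv 1)) = eM ((c : F) * (t : F)) := by
    rw [eM_sy, star_one, mul_one]
    simp [eM, star_coeK, smul_single, mul_comm]
  rw [← e, one_smul]
  simp only [sq1, sy, Subfield.coe_neg, Subfield.coe_mul, nK_coe, star_add, star_smul, star_bv, add_vecMulVec,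
    vecMulVec_add, smul_vecMulVec, vecMulVec_smul, smul_add, smul_smul, neg_smul, neg_mul]
  module

theorem Λw_model [Finite F] (ρ : Fˣ) (hρ : star (ρ : F) ≠ (ρ : F)) (y : F) :
    Λw θ' κ' ρ hρ y = sM (eM y) (eM_herm _) := by
  rw [Λw, Φw_model, Φw_model, sM_mul]
  refine sM_congr _ _ ?_
  rw [Units.val_one, one_mul]
  conv_rhs => rw [← p_eq hρ y]
  simp only [eM, star_add, single_add, mul_comm (ρ : F)]
  abel

theorem sM_comm {S S' : Mn} (hS : Sᴴ = S) (hS' : S'ᴴ = S') : Commute (sM S hS) (sM S' hS') := by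
  show sM S hS * sM S' hS' = sM S' hS' * sM S hS
  rw [sM_mul, sM_mul]
  exact sM_congr _ _ (add_comm _ _)

theorem comm_kU {A : LGn} (hA : LM A *ᵥ bv 0 = bv 0) (t : K) : Commute (gM A) (kM (mU t) : HG (m + 2) F) := by
  show gM A * kM (mU t) = kM (mU t) * gM A
  rw [← mul_inv_eq_iff_eq_mul, kU_model, gM_conj_sM]
  exact sM_congr _ _ (by rw [sq1_conj, hA])

theorem kT_coe : HMat (kM mT : HG (m + 2) F) = fromBlocks (1 - vecMulVec (bv 0) (bv 0)) (vecMulVec (bv 0) (bv 0))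
    (-vecMulVec (bv 0) (bv 0)) (1 - vecMulVec (bv 0) (bv 0)) := by
  have ed : (d0 (0 : F) : Mn) = 1 - vecMulVec (bv 0) (bv 0) := by
    rw [eq_sub_iff_add_eq, ← one_smul F (vecMulVec (bv (0 : Fin (m + 2))) (bv 0)), ← Sp.single_bv, d0_add_single,
      zero_add, d0_one]
  rw [kM_coe, kMat]
  simp only [mT_coe, of_apply, cons_val_zero, cons_val_one, ZeroMemClass.coe_zero, OneMemClass.coe_one,
    NegMemClass.coe_neg, Sp.single_bv, neg_smul, one_smul, ed]

theorem comm_kT {A : LGn} (h : FixAt 0 A) : Commute (gM A) (kM mT : HG (m + 2) F) := by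
  have hc : LM A⁻¹ *ᵥ bv 0 = bv 0 := by
    conv_lhs => rw [← h.1, mulVec_mulVec, LM_inv_mul, one_mulVec]
  have hr := inv_row h.2
  have e1 : bv 0 ᵥ* (LM A⁻¹)ᴴ = bv 0 := by
    rw [← star_star (bv 0 ᵥ* (LM A⁻¹)ᴴ), star_vecMul, conjTranspose_conjTranspose, star_bv, hc, star_bv]
  have e2 : (LM A⁻¹)ᴴ *ᵥ bv 0 = bv 0 := by
    rw [← star_star ((LM A⁻¹)ᴴ *ᵥ bv 0), star_mulVec, conjTranspose_conjTranspose, star_bv, hr, star_bv]
  apply HMat_inj
  rw [HMat_mul, HMat_mul, gM_coe, kT_coe, fromBlocks_multiply, fromBlocks_multiply]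
  simp only [Matrix.mul_zero, Matrix.zero_mul, add_zero, zero_add, Matrix.mul_sub, Matrix.sub_mul, Matrix.mul_one,
    Matrix.one_mul, mul_vecMulVec, vecMulVec_mul, Matrix.mul_neg, Matrix.neg_mul, h.1, h.2, e1, e2, zero_mulVec, zero_vecMulVec, neg_zero, sub_zero]

theorem kT_diag : HMat (kM mT : HG (m + 2) F) = fromBlocks (diagonal (Function.update 1 0 0))
    (Matrix.single 0 0 1) (-Matrix.single 0 0 1) (diagonal (Function.update 1 0 0)) := by
  rw [kM_coe, kMat]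
  simp only [mT_coe, of_apply, cons_val_zero, cons_val_one, ZeroMemClass.coe_zero, OneMemClass.coe_one,
    NegMemClass.coe_neg, Sp.single_bv, neg_smul, d0]

theorem model_ty (c : F) :
    (kM mT : HG (m + 2) F) * gM (x10 c) * (kM mT)⁻¹ = sM (eM (-star c)) (eM_herm _) := by
  have h01 : (0 : Fin (m + 2)) ≠ 1 := Fin.zero_ne_one
  have hinv : (x10 c : LGn)⁻¹ = x10 (-c) :=
    inv_eq_of_mul_eq_one_right (by rw [x10, x10, eg_mul, add_neg_cancel, eg_zero])
  have hx : ∀ d : F, LM (x10 d : LGn) = 1 + d • vecMulVec (bv 1) (bv 0) := fun d => by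
    rw [x10, eg, rg_coe, ← smul_vecMulVec]
    congr 2
    funext a; simp [bv, Pi.single_apply]
  have hs : ∀ (k l : Fin (m + 2)) (c : F), Matrix.single k l c = c • vecMulVec (bv k) (bv l) := fun k l c => by
    ext a b; simp [vecMulVec_apply, single_apply, bv, Pi.single_apply, ite_and, eq_comm]; split_ifs <;> simp
  have p00 : (bv 0 : Vn) ⬝ᵥ bv 0 = 1 := by simp [bv]
  have p01 : (bv 0 : Vn) ⬝ᵥ bv 1 = 0 := by simp [bv, h01]
  rw [mul_inv_eq_iff_eq_mul]
  apply HMat_inj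
  rw [HMat_mul, HMat_mul, kT_coe, gM_coe, sM_coe, hinv, hx, hx, fromBlocks_multiply, fromBlocks_multiply]
  simp only [eM, hs, star_neg, star_star, conjTranspose_add, conjTranspose_one, conjTranspose_smul,
    conjTranspose_vecMulVec, star_bv, Matrix.mul_add, Matrix.add_mul, Matrix.mul_sub, Matrix.sub_mul, Matrix.mul_one,
    Matrix.one_mul, Matrix.mul_zero, Matrix.zero_mul, Matrix.neg_mul, Matrix.mul_neg, Matrix.mul_smul, Matrix.smul_mul,
    vecMulVec_mul_vecMulVec, p00, p01, one_smul, zero_smul, vecMulVec_zero, neg_smul, smul_zero, neg_zero, add_zero,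
    zero_add, sub_zero, neg_neg]
  congr 1 <;> simp [Matrix.mul_add, vecMulVec_mul_vecMulVec, p00, p01, h01.symm] <;> abel

theorem dd01_diag (z : Fˣ) : LM (dd 0 1 z : LGn) =
    diagonal (Function.update (Function.update 1 1 ((z⁻¹ : Fˣ) : F)) 0 (z : F)) := by
  show ((dgl 0 z * dgl 1 z⁻¹ : GLn) : Mn) = _
  rw [Units.val_mul, dgl_coe, dgl_coe, diagonal_mul_diagonal]
  congr 1; funext j
  by_cases hj : j = 0
  · subst hj; simp [Fin.zero_ne_one]
  · by_cases hj1 : j = 1 <;> simp [hj, hj1]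

theorem model_tS (ρ : Fˣ) :
    (kM mT : HG (m + 2) F) * gM (dd 0 1 ρ) * (kM mT)⁻¹ = gM (tz ρ) := by
  have h01 : (0 : Fin (m + 2)) ≠ 1 := Fin.zero_ne_one
  rw [mul_inv_eq_iff_eq_mul]
  apply HMat_inj
  have hk : ∀ d : Kˣ, LM (dK 1 d : LGn) = diagonal (Function.update 1 1 (((d : K) : F))) := fun d => by
    show ((dgl 1 (liftK d) : GLn) : Mn) = _
    rw [dgl_coe, liftK_coe]
  rw [HMat_mul, HMat_mul, kT_diag, gM_coe, gM_coe]
  simp only [tz, _root_.mul_inv_rev, ← map_inv, inv_inv, LM_mul, dd01_diag, hk, diagonal_mul_diagonal,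
    diagonal_conjTranspose]
  rw [← diagonal_single, fromBlocks_multiply, fromBlocks_multiply]
  simp only [diagonal_mul_diagonal, diagonal_neg, diagonal_add, ← diagonal_zero]
  congr 1 <;> refine diagonal_eq_diagonal_iff.mpr fun j => ?_
  all_goals
    by_cases hj : j = 0
    · subst hj; simp [h01, starU, starRingEnd_apply]
    · by_cases hj1 : j = 1
      · subst hj1; simp [h01.symm, starU, normK_coe, starRingEnd_apply]
      · simp [hj, hj1]

theorem model_rels [Finite F] (ρ : Fˣ) (hρ : star (ρ : F) ≠ (ρ : F)) : Rels θ' κ' ρ hρ := by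
  have h01 : (0 : Fin (m + 2)) ≠ 1 := Fin.zero_ne_one
  have hd1 : ∀ d, FixAt 0 (dK (1 : Fin (m + 2)) d : LGn) := fun d => fixAt_dK h01 d
  have hcyc : FixAt (F := F) 0 (pg (cyc m)) := fixAt_pg cyc_zero
  have hx12 : ∀ (h : (1 : Fin (m + 2)) ≠ 2) (c : F), 1 ≤ m → FixAt (F := F) 0 (eg h c) := fun h c hm => by
    have h02 : (2 : Fin (m + 2)) ≠ 0 := fun e => by
      have := congrArg Fin.val e; simp [Nat.mod_eq_of_lt (show 2 < m + 2 by omega)] at this
    exact fixAt_rg _ (by simp [h01]) (by simp [bv, h02.symm])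
  refine ⟨fun B => ?_, ?_, fun i => ?_, ?_, ?_, fun hm h i => ?_, ?_, ?_, fun hm h i => ?_, ?_, ?_, ?_, ?_,
    fun i => ?_, fun i => ?_, fun hm k => ?_⟩
  · show kM (mH (normK ρ)) * gM _ * (kM (mH (normK ρ)))⁻¹ = gM _
    rw [kM_mH, ofSL_conjD, map_mul, map_mul, map_inv]
  · show γe θ' κ' _ * kM (mU 1) * _ = kM (mU _)
    rw [γe_model, kU_model, gM_conj_sM, kU_model]
    refine sM_congr _ _ ?_
    rw [sq1_conj, Glue.dd_bv0]
    simp only [sq1, star_smul, star_bv, smul_vecMulVec, vecMulVec_smul, smul_smul, OneMemClass.coe_one, normK_coe]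
    congr 1; ring
  · rw [γe_model]
    exact comm_kU (by rw [x01, eg, rg_coe, add_mulVec, one_mulVec, vecMulVec_mulVec]; simp [bv, h01.symm]) 1
  · rw [γe_model]; exact comm_kU hcyc.1 1
  · rw [γe_model]; exact comm_kU (hd1 _).1 1
  · rw [γe_model]; exact comm_kU (hx12 h _ hm).1 1
  · rw [γe_model]; exact comm_kT hcyc
  · rw [γe_model]; exact comm_kT (hd1 _)
  · rw [γe_model]; exact comm_kT (hx12 h _ hm)
  · rw [γe_model, γe_model]; exact model_tS ρ
  · rw [Ve_model _ _ sw01_col]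
    show Commute (kM (mU 1) : HG (m + 2) F) _
    rw [kU_model]; exact sM_comm _ _
  · rw [Ve_model _ _ sw01_col]
    apply HMat_inj
    rw [HMat_mul, HMat_mul, kT_diag, sM_coe, sq1, star_bv, ← Sp.single_bv, ← diagonal_single, ← diagonal_single,
      ← diagonal_one, fromBlocks_multiply, fromBlocks_multiply]
    simp only [diagonal_mul_diagonal, diagonal_neg, diagonal_add, ← diagonal_zero]
    congr 1 <;> refine diagonal_eq_diagonal_iff.mpr fun j => ?_
    all_goals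
      by_cases hj : j = 0
      · subst hj; simp [h01]
      · by_cases hj1 : j = 1 <;> simp [hj, hj1, h01.symm]
  · rw [γe_model, sw01]
    apply HMat_inj
    show HMat (kM mT * _) = HMat (_ * kM mT)
    rw [HMat_mul, HMat_mul (Y := kM mT), gM_pg_conj_kT, kT_diag, ← diagonal_single, ← diagonal_single,
      fromBlocks_multiply, fromBlocks_multiply]
    simp only [diagonal_mul_diagonal, diagonal_neg, diagonal_add]
    congr 1 <;> refine diagonal_eq_diagonal_iff.mpr fun j => ?_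
    all_goals
      by_cases hj : j = 0
      · subst hj; simp [h01]
      · by_cases hj1 : j = 1 <;> simp [hj, hj1, h01.symm]
  · rw [γe_model, Λw_model]; exact model_ty _
  · rw [γe_model, Φw_model, Λw_model, gM_conj_sM]
    refine sM_congr _ _ ?_
    rw [← show sy ((cs ρ i : F) • bv 0 : Vn) ((1 : F) • bv 1) = eM ((cs ρ i : F) * (((1 : K)) : F)) by
      rw [eM_sy, star_one, OneMemClass.coe_one], sy_conj, mulVec_smul, mulVec_smul, Glue.dd_bv0, Glue.dd_bv1,
      smul_smul, smul_smul, one_mul, eM_sy]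
    congr 1
    rw [Units.val_inv_eq_inv_val, star_inv₀]
    field_simp
  · have h02 : (2 : Fin (m + 2)) ≠ 0 := fun e => by
      have := congrArg Fin.val e; simp [Nat.mod_eq_of_lt (show 2 < m + 2 by omega)] at this
    have h12 := one_ne_two_fin (m := m) hm
    set r : Fˣ := ρ ^ (k : ℕ)
    have hcolL : ∀ x : Vn, x 0 = 0 → LM (colL x : LGn) *ᵥ bv 0 = bv 0 + x := fun x hx => by
      rw [colL, rg_coe, add_mulVec, one_mulVec, vecMulVec_mulVec,
        show Function.update x 0 0 = x by funext b; by_cases hb : b = 0 <;> simp [hb, hx]]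
      simp [bv]
    have hd2 : LM (dd 0 1 r : LGn) *ᵥ bv 2 = bv 2 := by
      rw [dd01_diag, mulVec_single_one, ← mulVec_single_one, diagonal_mulVec_single]
      simp [bv, h02, h12.symm]
    show _ * kM (mU _) * _ * _ = _
    rw [Ve_model _ _ (show LM (dd 0 1 r * colL ((r : F) • bv 1 + bv 2) : LGn) *ᵥ bv 0 =
        (r : F) • bv 0 + bv 1 + bv 2 by
          rw [LM_mul, ← mulVec_mulVec, hcolL _ (by simp [bv, h01, h02.symm]), mulVec_add, mulVec_add, mulVec_smul,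
            Glue.dd_bv0, Glue.dd_bv1, hd2, smul_smul, Units.mul_inv, one_smul, add_assoc]),
      kU_model, Ve_model _ _ sw01_col,
      Ve_model _ _ (show LM (pg (Equiv.swap 0 2) : LGn) *ᵥ bv 0 = bv 2 by
        show ((pgl _ : GLn) : Mn) *ᵥ _ = _; rw [pgl_bv, Equiv.swap_apply_left]),
      Ve_model _ _ (colC_col r),
      Ve_model _ _ (show LM (dd 0 1 r * colL (bv 2) : LGn) *ᵥ bv 0 = (r : F) • bv 0 + bv 2 by
          rw [LM_mul, ← mulVec_mulVec, hcolL _ (by simp [bv, h02.symm]), mulVec_add, Glue.dd_bv0, hd2]),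
      Ve_model _ _ (show LM (pg (Equiv.swap 0 1 * Equiv.swap 1 2) * x10 1 : LGn) *ᵥ bv 0 = bv 1 + bv 2 by
        rw [LM_mul, ← mulVec_mulVec, x10_col, one_smul]
        show ((pgl _ : GLn) : Mn) *ᵥ _ = _
        rw [mulVec_add, pgl_bv, pgl_bv, Equiv.Perm.mul_apply,
          Equiv.Perm.mul_apply, Equiv.swap_apply_of_ne_of_ne h01 h02.symm, Equiv.swap_apply_left,
          Equiv.swap_apply_left, Equiv.swap_apply_of_ne_of_ne h02 h12.symm]),
      sM_mul, sM_mul, sM_mul, sM_mul, sM_mul]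
    refine sM_congr _ _ ?_
    simp only [sq1, nK_coe, OneMemClass.coe_one, one_smul, star_add, star_smul, star_bv, add_vecMulVec, vecMulVec_add,
      smul_vecMulVec, vecMulVec_smul, smul_smul]
    module

end Cfsg.Agent.KSG55.Herm
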