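import Cfsg.Agent.KSG55.Herm.Gen
import Cfsg.Agent.KSG55.Pres.HomOf

set_option autoImplicit false

/-! The glued presentation. -/

namespace Cfsg.Agent.KSG55.Herm

open Matrix Cfsg.Agent.KSG55.Sp Cfsg.Agent.KSG55.Lin Cfsg.Agent.KSG55.Pres

variable {F : Type*} [Field F] [StarRing F] [Finite F] {m : ℕ}

local notation "SLn" => SpecialLinearGroup (Fin (m + 2)) F
local notation "HN" => HG (m + 2) F
local notation "SL2" => SpecialLinearGroup (Fin 2) (Kf F)

/-- From presentations of the two factors, counting only the relators that are not trivial. -/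
theorem presOn_glue_filter {ρ : Fˣ} (hρ : star (ρ : F) ≠ (ρ : F)) (gen : ∀ x : Fˣ, x ∈ Submonoid.powers ρ)
    (genK : ∀ x : (Kf F)ˣ, x ∈ Submonoid.powers (normK ρ))
    (htv : Subgroup.closure {X : HN | ∃ v t, Isot v ∧ HMat X = tvMat v t} = ⊤) {k r l s : ℕ}
    {gensθ : Fin k → SLn} (hθ : PresOn gensθ r) {gensκ : Fin l → SL2}
    (hκ : PresOn gensκ s) {B : ℕ}
    (hB : ∀ (zθ : SLn → FreeGroup (Fin (k + l))) (zκ : SL2 → FreeGroup (Fin (k + l))), zθ 1 = 1 → zκ 1 = 1 →
      (((List.ofFn fun i => zκ (mH (normK ρ)) * zθ (gensθ i) * (zκ (mH (normK ρ)))⁻¹ *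
          (zθ (conjD (normK ρ) (gensθ i)))⁻¹) ++
        (relPairs zθ zκ ρ hρ).map (fun p => p.1 * p.2⁻¹)).filter (fun w => decide (w ≠ 1))).length ≤ B) :
    PresOn (Fin.append (fun i => θM (gensθ i)) (fun i => (kM (gensκ i) : HN)))
      (r + s + B) := by
  classical
  obtain ⟨Lθ, hLθ, hLθrel, hLθtop, hLθhom⟩ := hθ.exists_hom
  obtain ⟨Lκ, hLκ, hLκrel, hLκtop, hLκhom⟩ := hκ.exists_hom
  set gensN := Fin.append (fun i => θM (gensθ i)) (fun i => (kM (gensκ i) : HN)) with hgensN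
  let cθ : FreeGroup (Fin k) →* FreeGroup (Fin (k + l)) := FreeGroup.map (Fin.castAdd l)
  let cκ : FreeGroup (Fin l) →* FreeGroup (Fin (k + l)) := FreeGroup.map (Fin.natAdd k)
  have hwθ : ∀ x, ∃ W, FreeGroup.lift gensθ W = x ∧ (x = 1 → W = 1) := fun x => by
    by_cases hx : x = 1
    · exact ⟨1, by rw [map_one, hx], fun _ => rfl⟩
    · obtain ⟨W, hW⟩ : x ∈ (FreeGroup.lift gensθ).range := by
        rw [FreeGroup.range_lift_eq_closure, hLθtop]; trivial
      exact ⟨W, hW, fun h => absurd h hx⟩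
  choose Wθ hWθ hWθ1 using hwθ
  have hwκ : ∀ x, ∃ W, FreeGroup.lift gensκ W = x ∧ (x = 1 → W = 1) := fun x => by
    by_cases hx : x = 1
    · exact ⟨1, by rw [map_one, hx], fun _ => rfl⟩
    · obtain ⟨W, hW⟩ : x ∈ (FreeGroup.lift gensκ).range := by
        rw [FreeGroup.range_lift_eq_closure, hLκtop]; trivial
      exact ⟨W, hW, fun h => absurd h hx⟩
  choose Wκ hWκ hWκ1 using hwκ
  let zθ : SLn → FreeGroup (Fin (k + l)) := fun x => cθ (Wθ x)
  let zκ : SL2 → FreeGroup (Fin (k + l)) := fun x => cκ (Wκ x)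
  let Rc : Fin k → FreeGroup (Fin (k + l)) := fun i =>
    zκ (mH (normK ρ)) * zθ (gensθ i) * (zκ (mH (normK ρ)))⁻¹ * (zθ (conjD (normK ρ) (gensθ i)))⁻¹
  let core := List.ofFn Rc ++ (relPairs zθ zκ ρ hρ).map (fun p => p.1 * p.2⁻¹)
  let rels := Lθ.map cθ ++ Lκ.map cκ ++ core.filter (fun w => decide (w ≠ 1))
  have hlen : rels.length ≤ r + s + B := by
    have h1 : (core.filter (fun w => decide (w ≠ 1))).length ≤ B :=
      hB zθ zκ (by simp [zθ, hWθ1 1 rfl]) (by simp [zκ, hWκ1 1 rfl])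
    simp only [rels, List.length_append, List.length_map]
    omega
  -- evaluation of words
  have mθ : ∀ w, FreeGroup.lift gensN (cθ w) = θM (FreeGroup.lift gensθ w) := fun w =>
    DFunLike.congr_fun (FreeGroup.ext_hom ((FreeGroup.lift gensN).comp cθ) (θM.comp (FreeGroup.lift gensθ))
      fun i => by simp [cθ, hgensN]) w
  have mκ : ∀ w, FreeGroup.lift gensN (cκ w) = kM (FreeGroup.lift gensκ w) := fun w =>
    DFunLike.congr_fun (FreeGroup.ext_hom ((FreeGroup.lift gensN).comp cκ) (kM.comp (FreeGroup.lift gensκ))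
      fun i => by simp [cκ, hgensN]) w
  have ezθ : (fun x => FreeGroup.lift gensN (zθ x)) = ⇑(θM (F := F) (m := m)) := funext fun x => by
    simp only [zθ, mθ, hWθ]
  have ezκ : (fun x => FreeGroup.lift gensN (zκ x)) = fun M => (kM M : HN) := funext fun x => by
    simp only [zκ, mκ, hWκ]
  refine presOn_of_inj gensN rels hlen ?_ ?_ ?_
  · intro w hw
    have M := model_rels (F := F) (m := m) ρ hρ
    simp only [rels, core, List.mem_append, List.mem_map, List.mem_ofFn, List.mem_filter] at hw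
    rcases hw with (⟨w, hw, rfl⟩ | ⟨w, hw, rfl⟩) | ⟨⟨i, rfl⟩ | ⟨p, hp, rfl⟩, -⟩
    · rw [mθ, hLθrel w hw, map_one]
    · rw [mκ, hLκrel w hw, map_one]
    · simp only [Rc, zθ, zκ, map_mul, map_inv, mθ, mκ, hWθ, hWκ, mul_inv_eq_one]
      exact M.conjH _
    · rw [map_mul, map_inv, mul_inv_eq_one]
      have hmem : ((FreeGroup.lift gensN) p.1, (FreeGroup.lift gensN) p.2) ∈
          relPairs ⇑(θM (F := F) (m := m)) (fun M => (kM M : HN)) ρ hρ := by
        rw [← ezθ, ← ezκ, ← map_relPairs]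
        exact List.mem_map.mpr ⟨p, hp, rfl⟩
      have hall := pairs_of_rels _ _ ρ hρ M
      exact hall _ hmem
  · rw [eq_top_iff, ← hg_gen_of hρ htv]
    refine sup_le ?_ ?_
    · rw [MonoidHom.range_eq_map, ← hLθtop, MonoidHom.map_closure, Subgroup.closure_le]
      rintro _ ⟨_, ⟨i, rfl⟩, rfl⟩
      exact Subgroup.subset_closure ⟨Fin.castAdd l i, by simp [hgensN]⟩
    · rw [MonoidHom.range_eq_map, ← hLκtop, MonoidHom.map_closure, Subgroup.closure_le]
      rintro _ ⟨_, ⟨i, rfl⟩, rfl⟩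
      exact Subgroup.subset_closure ⟨Fin.natAdd k i, by simp [hgensN]⟩
  · intro H _ U φ hU hrel hφ x hx
    have hliftθ : ∀ w, FreeGroup.lift (fun i => U (Fin.castAdd l i)) w = FreeGroup.lift U (cθ w) := fun w =>
      DFunLike.congr_fun (FreeGroup.ext_hom _ ((FreeGroup.lift U).comp cθ) fun i => by simp [cθ]) w
    have hliftκ : ∀ w, FreeGroup.lift (fun i => U (Fin.natAdd k i)) w = FreeGroup.lift U (cκ w) := fun w =>
      DFunLike.congr_fun (FreeGroup.ext_hom _ ((FreeGroup.lift U).comp cκ) fun i => by simp [cκ]) w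
    have hmem : ∀ w, w ∈ Lθ.map cθ ++ Lκ.map cκ → w ∈ rels := fun w hw => List.mem_append_left _ hw
    have hcore : ∀ w ∈ core, FreeGroup.lift U w = 1 := fun w hw => by
      by_cases h1 : w = 1
      · rw [h1, map_one]
      · exact hrel w (List.mem_append_right _ (List.mem_filter.mpr ⟨hw, by simpa using h1⟩))
    obtain ⟨θ, hθg⟩ := hLθhom H (fun i => U (Fin.castAdd l i)) fun w hw => by
      rw [hliftθ]; exact hrel _ (hmem _ (List.mem_append_left _ (List.mem_map_of_mem hw)))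
    obtain ⟨κ, hκg⟩ := hLκhom H (fun i => U (Fin.natAdd k i)) fun w hw => by
      rw [hliftκ]; exact hrel _ (hmem _ (List.mem_append_right _ (List.mem_map_of_mem hw)))
    have hθw : ∀ x, θ x = FreeGroup.lift U (zθ x) := fun x => by
      simp only [zθ]
      rw [← hliftθ]
      conv_lhs => rw [← hWθ x]
      exact DFunLike.congr_fun (FreeGroup.ext_hom (θ.comp (FreeGroup.lift gensθ))
        (FreeGroup.lift fun i => U (Fin.castAdd l i)) fun i => by simp [hθg]) (Wθ x)
    have hκw : ∀ x, κ x = FreeGroup.lift U (zκ x) := fun x => by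
      simp only [zκ]
      rw [← hliftκ]
      conv_lhs => rw [← hWκ x]
      exact DFunLike.congr_fun (FreeGroup.ext_hom (κ.comp (FreeGroup.lift gensκ))
        (FreeGroup.lift fun i => U (Fin.natAdd k i)) fun i => by simp [hκg]) (Wκ x)
    have hR : Rels (H := H) ⇑θ ⇑κ ρ hρ := by
      refine rels_of_pairs _ _ _ hρ (fun B => ?_) fun p hp => ?_
      · have hgen : ∀ i, κ (mH (normK ρ)) * θ (gensθ i) * (κ (mH (normK ρ)))⁻¹ = θ (conjD (normK ρ) (gensθ i)) := fun i => by
          have h1 := hcore (Rc i) (List.mem_append_left _ (by rw [List.mem_ofFn]; exact ⟨i, rfl⟩))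
          simp only [Rc, map_mul, map_inv, mul_inv_eq_one, ← hθw, ← hκw] at h1
          exact h1
        let cD : SLn →* SLn :=
          { toFun := conjD (normK ρ)
            map_one' := ofSL_inj (by rw [ofSL_conjD, map_one, mul_one, mul_inv_cancel])
            map_mul' := fun x y => ofSL_inj (by
              rw [ofSL_conjD, map_mul, map_mul, ofSL_conjD, ofSL_conjD]; group) }
        refine DFunLike.congr_fun (MonoidHom.eq_of_eqOn_dense hLθtop
          (f := (MulAut.conj (κ (mH (normK ρ)))).toMonoidHom.comp θ) (g := θ.comp cD) ?_) B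
        rintro _ ⟨i, rfl⟩
        exact hgen i
      · rw [show (⇑θ : SLn → H) = fun x => FreeGroup.lift U (zθ x) from funext hθw,
          show (⇑κ : _ → H) = fun x => FreeGroup.lift U (zκ x) from funext hκw, ← map_relPairs] at hp
        obtain ⟨q, hq, rfl⟩ := List.mem_map.mp hp
        have h1 := hcore _ (List.mem_append_right _ (List.mem_map_of_mem (f := fun p => p.1 * p.2⁻¹) hq))
        rw [map_mul, map_inv, mul_inv_eq_one] at h1
        exact h1
    let D : Glue F m H := ⟨θ, κ, ρ, hρ, gen, genK, hR⟩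
    refine glue_inj D φ (fun B => ?_) (fun M => ?_) ?_ x hx
    · refine DFunLike.congr_fun (MonoidHom.eq_of_eqOn_dense hLθtop (f := φ.comp θ) (g := θM) ?_) B
      rintro _ ⟨i, rfl⟩
      simp [hθg, hφ, hgensN]
    · refine DFunLike.congr_fun (MonoidHom.eq_of_eqOn_dense hLκtop (f := φ.comp κ) (g := kM) ?_) M
      rintro _ ⟨i, rfl⟩
      simp [hκg, hφ, hgensN]
    · rw [eq_top_iff, ← hU, Subgroup.closure_le]
      rintro _ ⟨i, rfl⟩
      induction i using Fin.addCases with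
      | left i => exact Subgroup.mem_sup_left ⟨gensθ i, hθg i⟩
      | right i => exact Subgroup.mem_sup_right ⟨gensκ i, hκg i⟩

/-- From presentations of the two factors. -/
theorem presOn_glue {ρ : Fˣ} (hρ : star (ρ : F) ≠ (ρ : F)) (gen : ∀ x : Fˣ, x ∈ Submonoid.powers ρ)
    (genK : ∀ x : (Kf F)ˣ, x ∈ Submonoid.powers (normK ρ))
    (htv : Subgroup.closure {X : HN | ∃ v t, Isot v ∧ HMat X = tvMat v t} = ⊤) {k r l s : ℕ}
    {gensθ : Fin k → SLn} (hθ : PresOn gensθ r) {gensκ : Fin l → SL2}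
    (hκ : PresOn gensκ s) :
    PresOn (Fin.append (fun i => θM (gensθ i)) (fun i => (kM (gensκ i) : HN)))
      (r + s + k + 22) := by
  refine (presOn_glue_filter hρ gen genK htv hθ hκ (B := k + 22) fun zθ zκ _ _ => ?_).mono (by omega)
  refine (List.length_filter_le _ _).trans ?_
  have := relPairs_length zθ zκ ρ hρ
  simp only [List.length_append, List.length_map, List.length_ofFn]
  omega

/-- Rank two. -/
theorem relPairs_length_zero {G : Type*} [Group G] (θ : SpecialLinearGroup (Fin (0 + 2)) F → G)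
    (κ : SpecialLinearGroup (Fin 2) (Kf F) → G) (ρ : Fˣ) (hρ : star (ρ : F) ≠ (ρ : F)) :
    (relPairs θ κ ρ hρ).length = 15 := by
  unfold relPairs
  simp

/-- Rank two when the norm of the generator is trivial. -/
theorem filter_length_two {G : Type*} [Group G] [DecidableEq G] (θ : SpecialLinearGroup (Fin (0 + 2)) F → G)
    (κ : SpecialLinearGroup (Fin 2) (Kf F) → G) (ρ : Fˣ) (hρ : star (ρ : F) ≠ (ρ : F)) (hN : normK ρ = 1)
    (hθ : θ 1 = 1) (hκ : κ 1 = 1) {k : ℕ} (g : Fin k → SpecialLinearGroup (Fin (0 + 2)) F) :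
    (((List.ofFn fun i => κ (mH (normK ρ)) * θ (g i) * (κ (mH (normK ρ)))⁻¹ *
          (θ (conjD (normK ρ) (g i)))⁻¹) ++
        (relPairs θ κ ρ hρ).map (fun p => p.1 * p.2⁻¹)).filter (fun w => decide (w ≠ 1))).length ≤ 13 := by
  have hH : κ (mH (normK ρ)) = 1 := by
    rw [hN, show mH (1 : (Kf F)ˣ) = 1 from mHHom.map_one, hκ]
  have hD : γe θ κ (dK 1 (normK ρ) : LG F (0 + 2)) = 1 := by
    rw [hN, map_one, γe, map_one, show mH (1 : (Kf F)ˣ) = 1 from mHHom.map_one, hκ, mul_one,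
      show toSL (1 : LG F (0 + 2)) = 1 from ofSL_inj (by rw [ofSL_toSL, map_one, map_one, map_one, inv_one, mul_one]),
      hθ]
  have hC : ∀ B : SpecialLinearGroup (Fin (0 + 2)) F, conjD (normK ρ) B = B := fun B =>
    ofSL_inj (by rw [ofSL_conjD, hN, map_one, one_mul, inv_one, mul_one])
  rw [List.filter_append, List.length_append]
  have h0 : ((List.ofFn fun i => κ (mH (normK ρ)) * θ (g i) * (κ (mH (normK ρ)))⁻¹ *
      (θ (conjD (normK ρ) (g i)))⁻¹).filter (fun w => decide (w ≠ 1))).length = 0 := by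
    rw [List.length_eq_zero_iff, List.filter_eq_nil_iff]
    intro w hw
    obtain ⟨i, rfl⟩ := List.mem_ofFn.mp hw
    simp [hH, hC]
  rw [h0, zero_add]
  have e5 : (cp (γe θ κ (dK 1 (normK ρ) : LG F (0 + 2))) (κ (mU 1))).1 *
      (cp (γe θ κ (dK 1 (normK ρ) : LG F (0 + 2))) (κ (mU 1))).2⁻¹ = 1 := by simp [cp, hD]
  have e7 : (cp (γe θ κ (dK 1 (normK ρ) : LG F (0 + 2))) (κ mT)).1 *
      (cp (γe θ κ (dK 1 (normK ρ) : LG F (0 + 2))) (κ mT)).2⁻¹ = 1 := by simp [cp, hD]
  have key : ∀ (p : G → Bool) (a₁ a₂ a₃ a₄ a₅ a₆ a₇ : G) (l : List G), p a₅ = false → p a₇ = false →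
      ((a₁ :: a₂ :: a₃ :: a₄ :: a₅ :: a₆ :: a₇ :: l).filter p).length ≤ l.length + 5 := by
    intro p a₁ a₂ a₃ a₄ a₅ a₆ a₇ l h5 h7
    have : (a₁ :: a₂ :: a₃ :: a₄ :: a₅ :: a₆ :: a₇ :: l).filter p =
        ([a₁, a₂, a₃, a₄, a₆] ++ l).filter p := by simp [List.filter_cons, h5, h7]
    rw [this]
    refine (List.length_filter_le _ _).trans (le_of_eq ?_)
    simp
  unfold relPairs
  rw [dif_neg (by omega)]
  simp only [List.append_nil, List.map_cons, List.map_nil]
  refine (key _ _ _ _ _ _ _ _ _ (by simpa using e5) (by simpa using e7)).trans ?_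
  simp

end Cfsg.Agent.KSG55.Herm
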