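import Cfsg.Agent.KSG55.Herm.Core

set_option autoImplicit false
set_option linter.unusedSectionVars false

/-! The abelian radical inside a group satisfying the relations. -/

namespace Cfsg.Agent.KSG55.Herm

open Matrix Cfsg.Agent.KSG55.Sp Cfsg.Agent.KSG55.Lin

variable {F : Type*} [Field F] [StarRing F] {m : ℕ}

local notation "GLn" => GL (Fin (m + 2)) F
local notation "LGn" => LG F (m + 2)
local notation "Vn" => Fin (m + 2) → F
local notation "Mn" => Matrix (Fin (m + 2)) (Fin (m + 2)) F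
local notation "K" => Kf F

namespace Glue

variable {G : Type*} [Group G] (D : Glue F m G)

/-- The subgroup generated by the root elements of vectors. -/
def QG : Subgroup G := Subgroup.closure {g | ∃ v t, g = D.q v t}

theorem q_mem (v : Vn) (t : K) : D.q v t ∈ D.QG := Subgroup.subset_closure ⟨v, t, rfl⟩

variable [Finite F]

theorem QG_comm {x y : G} (hx : x ∈ D.QG) (hy : y ∈ D.QG) : Commute x y := by
  induction hx, hy using Subgroup.closure_induction₂ with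
  | mem x y hx hy =>
    obtain ⟨v, s, rfl⟩ := hx
    obtain ⟨w, t, rfl⟩ := hy
    exact D.q_comm v w s t
  | one_left x hx => exact Commute.one_left x
  | one_right x hx => exact Commute.one_right x
  | mul_left x y z _ _ _ h1 h2 => exact h1.mul_left h2
  | mul_right x y z _ _ _ h1 h2 => exact h1.mul_right h2
  | inv_left x y _ _ h => exact h.inv_left
  | inv_right x y _ _ h => exact h.inv_right

noncomputable instance QG_commGroup : CommGroup ↥D.QG :=
  { (inferInstance : Group ↥D.QG) with mul_comm := fun x y => Subtype.ext (D.QG_comm x.2 y.2).eq }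

/-- The root elements, additively. -/
noncomputable def qA (v : Vn) : K →+ Additive ↥D.QG :=
  AddMonoidHom.mk' (fun t => Additive.ofMul ⟨D.q v t, D.q_mem v t⟩) fun s t =>
    Additive.toMul.injective (Subtype.ext (D.q_add v s t))

/-- The underlying element. -/
def el (x : Additive ↥D.QG) : G := (Additive.toMul x).1

theorem el_qA (v : Vn) (t : K) : D.el (D.qA v t) = D.q v t := rfl
theorem el_add (x y : Additive ↥D.QG) : D.el (x + y) = D.el x * D.el y := rfl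
theorem el_neg (x : Additive ↥D.QG) : D.el (-x) = (D.el x)⁻¹ := rfl
theorem el_sub (x y : Additive ↥D.QG) : D.el (x - y) = D.el x * (D.el y)⁻¹ := by
  rw [sub_eq_add_neg, el_add, el_neg]
theorem el_zero : D.el 0 = 1 := rfl
theorem el_inj {x y : Additive ↥D.QG} (h : D.el x = D.el y) : x = y :=
  Additive.toMul.injective (Subtype.ext h)

/-- Conjugation by the Levi subgroup. -/
noncomputable def cA (A : LGn) : Additive ↥D.QG →+ Additive ↥D.QG :=
  MonoidHom.toAdditive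
    ((((MulAut.conj (D.Γ A)).toMonoidHom.comp D.QG.subtype)).codRestrict D.QG fun x => by
      have hle : D.QG ≤ D.QG.comap (MulAut.conj (D.Γ A)).toMonoidHom := by
        refine (Subgroup.closure_le _).mpr ?_
        rintro _ ⟨v, t, rfl⟩
        show D.Γ A * D.q v t * (D.Γ A)⁻¹ ∈ D.QG
        rw [q_conj]; exact D.q_mem _ _
      exact hle x.2)

theorem el_cA (A : LGn) (x : Additive ↥D.QG) : D.el (D.cA A x) = D.Γ A * D.el x * (D.Γ A)⁻¹ := rfl

theorem cA_qA (A : LGn) (v : Vn) (t : K) : D.cA A (D.qA v t) = D.qA (LM A *ᵥ v) t :=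
  D.el_inj (by rw [el_cA, el_qA, el_qA, q_conj])

theorem qA_zero (t : K) : D.qA 0 t = 0 := D.el_inj (D.q_zero t)

theorem qA_scale (c : F) (v : Vn) (t : K) : D.qA (c • v) t = D.qA v (nK c * t) := D.el_inj (D.q_scale c v t)

theorem x10_bv0 (c : F) : LM (x10 c : LGn) *ᵥ bv 0 = bv 0 + c • bv 1 := by
  show ((egl (show (1 : Fin (m + 2)) ≠ 0 from Fin.zero_ne_one.symm) c : GLn) : Mn) *ᵥ bv 0 = _
  rw [egl, rk1_mulVec]
  funext i
  by_cases h : i = 1
  · subst h; simp [bv]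
  · simp [bv, h]

theorem colC_bv0 (c : Fˣ) : LM (colC c : LGn) *ᵥ bv 0 = (c : F) • bv 0 + bv 1 := by
  rw [colC, LM_mul, ← mulVec_mulVec, x10_bv0, mulVec_add, mulVec_smul, dd_bv0, dd_bv1, smul_smul, Units.mul_inv,
    one_smul]

/-- The off diagonal element. -/
noncomputable def Φ (x : F) (t : K) : Additive ↥D.QG :=
  D.qA (x • bv 0 + bv 1) t - D.qA (bv 0) (nK x * t) - D.qA (bv 1) t

/-- Its linear extension. -/
noncomputable def Λ (y : F) : Additive ↥D.QG :=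
  D.Φ 1 (p1 (D.ρ : F) D.hρ y) + D.Φ (D.ρ : F) (p2 (D.ρ : F) y)

theorem Φ_add (x : F) (s t : K) : D.Φ x (s + t) = D.Φ x s + D.Φ x t := by
  simp only [Φ, mul_add, map_add]; abel

theorem Φ_zero_right (x : F) : D.Φ x 0 = 0 := by simp [Φ]

theorem Φ_neg (x : F) (t : K) : D.Φ x (-t) = -D.Φ x t := by
  rw [eq_neg_iff_add_eq_zero, ← Φ_add, neg_add_cancel, Φ_zero_right]

theorem Φ_zero_left (t : K) : D.Φ 0 t = 0 := by
  simp [Φ, nK_zero]

theorem Λ_add (x y : F) : D.Λ (x + y) = D.Λ x + D.Λ y := by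
  simp only [Λ, p1_add, p2_add, Φ_add]; abel

theorem Λ_zero : D.Λ 0 = 0 := by simp [Λ, p1_zero, p2_zero, Φ_zero_right]

theorem Λ_neg (x : F) : D.Λ (-x) = -D.Λ x := by
  rw [eq_neg_iff_add_eq_zero, ← Λ_add, neg_add_cancel, Λ_zero]

theorem el_Φ (c : Fˣ) (t : K) : D.el (D.Φ (c : F) t) = Φw ⇑D.θ ⇑D.κ c t := by
  rw [Φ, sub_eq_add_neg, sub_eq_add_neg, ← map_neg, ← map_neg, el_add, el_add, el_qA, el_qA, el_qA, q_bv0,
    D.q_col (colC_bv0 c), D.q_col sw01_bv]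
  rfl

theorem el_Λ (y : F) : D.el (D.Λ y) = Λw ⇑D.θ ⇑D.κ D.ρ D.hρ y := by
  rw [Λ, el_add, el_Φ]
  have := D.el_Φ 1 (p1 (D.ρ : F) D.hρ y)
  rw [Units.val_one] at this
  rw [this]; rfl

theorem Φ_scalar (d : Kˣ) (x : F) (t : K) : D.cA (scK d) (D.Φ x t) = D.Φ x ((d : K) ^ 2 * t) := by
  simp only [Φ, map_sub, cA_qA, scK_mulVec, qA_scale, nK_coeK]
  rw [mul_left_comm]

theorem Λ_scalar (d : Kˣ) (y : F) : D.cA (scK d) (D.Λ y) = D.Λ ((((d : K) ^ 2 : K) : F) * y) := by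
  have e : y = (p1 (D.ρ : F) D.hρ y : F) + (p2 (D.ρ : F) y : F) * (D.ρ : F) := (p_eq D.hρ y).symm
  conv_rhs => rw [e, mul_add, Λ_add, ← mul_assoc, ← Subfield.coe_mul, ← Subfield.coe_mul]
  simp only [Λ, map_add, Φ_scalar, p1_coe, p2_coe, p1_mul_omega, p2_mul_omega D.hρ, Φ_zero_right, add_zero, zero_add]

theorem dd_Φ (z : Fˣ) (x : F) (t : K) :
    D.cA (dd 0 1 z) (D.Φ x t) = D.Φ ((z : F) * z * x) (nK ((z⁻¹ : Fˣ) : F) * t) := by
  simp only [Φ, map_sub, cA_qA, mulVec_add, mulVec_smul, dd_bv0, dd_bv1, smul_smul]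
  rw [show (x * (z : F)) • bv (0 : Fin (m + 2)) + ((z⁻¹ : Fˣ) : F) • bv 1 =
      ((z⁻¹ : Fˣ) : F) • (((z : F) * z * x) • bv 0 + bv 1) by
        rw [smul_add, smul_smul]; congr 2; simp only [Units.val_inv_eq_inv_val]; field_simp, qA_scale, qA_scale, qA_scale]
  congr 3
  rw [← mul_assoc, ← mul_assoc, ← nK_mul, ← nK_mul]
  congr 2
  all_goals field_simp
  all_goals simp [mul_comm, mul_left_comm]

/-- The zeta factor. -/
theorem lin_all (i : Fin 2) (t : K) :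
    D.cA (dd 0 1 D.ρ) (D.Φ (cs D.ρ i : F) t) = D.Λ ((D.ρ : F) / star (D.ρ : F) * (cs D.ρ i : F) * (t : F)) := by
  induction t using sq_induction with
  | h0 => simp [Φ_zero_right, Λ_zero]
  | hadd x y hx hy => rw [Φ_add, map_add, hx, hy, ← Λ_add, Subfield.coe_add, mul_add]
  | hneg x hx => rw [Φ_neg, map_neg, hx, ← Λ_neg, Subfield.coe_neg, mul_neg]
  | hsq y =>
    have h1 : D.cA (dd 0 1 D.ρ) (D.Φ (cs D.ρ i : F) 1) = D.Λ ((D.ρ : F) / star (D.ρ : F) * (cs D.ρ i : F)) := by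
      apply D.el_inj
      rw [el_cA, el_Φ, el_Λ]
      exact D.rels.lin i
    have hcomm : ∀ x, D.cA (scK y) (D.cA (dd 0 1 D.ρ) x) = D.cA (dd 0 1 D.ρ) (D.cA (scK y) x) := fun x => by
      apply D.el_inj
      have hc : Commute (D.Γ (scK y)) (D.Γ (dd 0 1 D.ρ)) := by
        refine Commute.map (Subtype.ext ?_) D.Γ
        exact GeneralLinearGroup.scalar_commute (liftK y) _
      simp only [el_cA]
      rw [show D.Γ (scK y) * (D.Γ (dd 0 1 D.ρ) * D.el x * (D.Γ (dd 0 1 D.ρ))⁻¹) * (D.Γ (scK y))⁻¹ =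
        (D.Γ (scK y) * D.Γ (dd 0 1 D.ρ)) * D.el x * (D.Γ (scK y) * D.Γ (dd 0 1 D.ρ))⁻¹ by group, hc.eq]
      group
    have e := congrArg (D.cA (scK y)) h1
    rw [hcomm, Φ_scalar, Λ_scalar, mul_one] at e
    rw [e]; congr 1; ring

theorem Φ_eq (x : F) (t : K) : D.Φ x t = D.Λ (x * (t : F)) := by
  have hT : ∀ y, D.cA (dd 0 1 D.ρ) (D.Λ y) = D.Λ ((D.ρ : F) / star (D.ρ : F) * y) := fun y => by
    have h0 := D.lin_all 0 (p1 (D.ρ : F) D.hρ y)
    have h1 := D.lin_all 1 (p2 (D.ρ : F) y)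
    simp only [cs, cons_val_zero, cons_val_one, Units.val_one] at h0 h1
    conv_rhs => rw [← p_eq D.hρ y]
    rw [Λ, map_add, h0, h1, ← Λ_add]
    congr 1; ring
  suffices key : ∀ k : ℕ, ∀ t, D.Φ ((D.ρ : F) ^ k) t = D.Λ ((D.ρ : F) ^ k * (t : F)) by
    rcases eq_or_ne x 0 with rfl | hx
    · rw [Φ_zero_left, zero_mul, Λ_zero]
    obtain ⟨k, hk⟩ := D.gen (Units.mk0 x hx)
    have hx' : (D.ρ : F) ^ k = x := by rw [← Units.val_pow_eq_pow_val]; exact congrArg Units.val hk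
    rw [← hx']; exact key k t
  intro k
  induction k using Nat.twoStepInduction with
  | zero => intro t; simp [Λ, p1_coe, p2_coe, Φ_zero_right]
  | one => intro t; rw [pow_one, mul_comm]; simp [Λ, p1_mul_omega, p2_mul_omega D.hρ, Φ_zero_right]
  | more k ih _ =>
    intro t
    have e := congrArg (D.cA (dd 0 1 D.ρ)) (ih (nK (D.ρ : F) * t))
    rw [dd_Φ, hT, ← mul_assoc (nK ((D.ρ⁻¹ : Fˣ) : F)), ← nK_mul, Units.inv_mul, nK_one, one_mul,
      show (D.ρ : F) * D.ρ * (D.ρ : F) ^ k = (D.ρ : F) ^ (k + 2) by ring] at e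
    rw [e]
    congr 1
    rw [Subfield.coe_mul, nK_coe]
    have := star_ne_zero.mpr D.ρ.ne_zero
    field_simp
    ring

theorem qA_two {i j : Fin (m + 2)} (hij : i ≠ j) (α β : F) (t : K) :
    D.qA (α • bv i + β • bv j) t =
      D.qA (bv i) (nK α * t) + D.qA (bv j) (nK β * t) + Lij D.hρ D.qA i j (α * star β * (t : F)) := by
  obtain ⟨π, hπ0, hπ1⟩ := Sp.Glue.exists_perm2 hij
  have hL : ∀ y, Lij D.hρ D.qA i j y = D.cA (pg π) (D.Λ y) := fun y => by
    have hpv : ∀ v, LM (pg π : LGn) *ᵥ bv v = bv (π v) := fun v => pgl_bv π v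
    simp only [Lij, Λ, Φ, map_add, map_sub, cA_qA, mulVec_add, mulVec_smul, hpv, hπ0, hπ1, one_smul, nK_one,
      one_mul]
  rcases eq_or_ne β 0 with rfl | hβ
  · simp [qA_scale, nK_zero, hL, Λ_zero]
  have e := congrArg (D.cA (pg π)) (D.Φ_eq (α / β) (nK β * t))
  rw [show α / β * ((nK β * t : K) : F) = α * star β * (t : F) by
    rw [Subfield.coe_mul, nK_coe]; field_simp, ← hL] at e
  rw [← e]
  simp only [Φ, map_sub, cA_qA, mulVec_add, mulVec_smul]
  have hpv : ∀ v, LM (pg π : LGn) *ᵥ bv v = bv (π v) := fun v => pgl_bv π v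
  simp only [hpv, hπ0, hπ1]
  rw [show α • bv i + β • bv j = β • ((α / β) • bv i + bv j) by rw [smul_add, smul_smul, mul_div_cancel₀ _ hβ],
    qA_scale, show nK (α / β) * (nK β * t) = nK α * t by rw [← mul_assoc, ← nK_mul, div_mul_cancel₀ _ hβ]]
  abel

theorem colL_bv0 {x : Vn} (hx : x 0 = 0) : LM (colL x : LGn) *ᵥ bv 0 = bv 0 + x := by
  rw [colL, rg_coe, add_mulVec, one_mulVec, vecMulVec_mulVec]
  funext b; by_cases hb : b = 0
  · subst hb; simp [hx, bv]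
  · simp [hb, bv]

theorem pgx_bv (hm : 1 ≤ m) :
    LM (pg (Equiv.swap 0 1 * Equiv.swap 1 2) * x10 1 : LGn) *ᵥ bv 0 = bv 1 + bv 2 := by
  have h12 : (1 : Fin (m + 2)) ≠ 2 := fun e => by
    have := congrArg Fin.val e; simp [Nat.mod_eq_of_lt (show 2 < m + 2 by omega)] at this
  have h02 : (0 : Fin (m + 2)) ≠ 2 := fun e => by
    have := congrArg Fin.val e; simp [Nat.mod_eq_of_lt (show 2 < m + 2 by omega)] at this
  rw [LM_mul, ← mulVec_mulVec, x10_bv0, one_smul, mulVec_add]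
  show ((pgl _ : GLn) : Mn) *ᵥ _ + ((pgl _ : GLn) : Mn) *ᵥ _ = _
  rw [pgl_bv, pgl_bv, Equiv.Perm.mul_apply, Equiv.Perm.mul_apply, Equiv.swap_apply_of_ne_of_ne Fin.zero_ne_one h02,
    Equiv.swap_apply_left, Equiv.swap_apply_left, Equiv.swap_apply_of_ne_of_ne h02.symm h12.symm]

theorem three_base (hm : 1 ≤ m) (k : Fin 3) (t : K) :
    D.qA ((D.ρ : F) ^ (k : ℕ) • bv 0 + bv 1 + bv 2) t + D.qA ((D.ρ : F) ^ (k : ℕ) • bv 0) t + D.qA (bv 1) t +
        D.qA (bv 2) t =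
      D.qA ((D.ρ : F) ^ (k : ℕ) • bv 0 + bv 1) t + D.qA ((D.ρ : F) ^ (k : ℕ) • bv 0 + bv 2) t +
        D.qA (bv 1 + bv 2) t := by
  induction t using sq_induction with
  | h0 => simp
  | hadd x y hx hy =>
    simp only [map_add]
    linear_combination (norm := abel) hx + hy
  | hneg x hx =>
    simp only [map_neg]
    linear_combination (norm := abel) -hx
  | hsq y =>
    set l : Fˣ := D.ρ ^ (k : ℕ) with hl
    rw [show (D.ρ : F) ^ (k : ℕ) = (l : F) from (Units.val_pow_eq_pow_val _ _).symm]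
    have h02 : (2 : Fin (m + 2)) ≠ 0 := fun e => by
      have := congrArg Fin.val e; simp [Nat.mod_eq_of_lt (show 2 < m + 2 by omega)] at this
    have h12 : (1 : Fin (m + 2)) ≠ 2 := fun e => by
      have := congrArg Fin.val e; simp [Nat.mod_eq_of_lt (show 2 < m + 2 by omega)] at this
    have hd2 : LM (dd 0 1 l : LGn) *ᵥ bv 2 = bv 2 := by
      show ((dgl 0 l * dgl 1 l⁻¹ : GLn) : Mn) *ᵥ bv 2 = _
      rw [Units.val_mul, ← mulVec_mulVec, Sp.Glue.dgl_bv, if_neg h12.symm, Sp.Glue.dgl_bv, if_neg h02]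
    have e3 : LM (dd 0 1 l * colL ((l : F) • bv 1 + bv 2) : LGn) *ᵥ bv 0 = (l : F) • bv 0 + bv 1 + bv 2 := by
      rw [LM_mul, ← mulVec_mulVec, colL_bv0 (by simp [bv, h02.symm]), mulVec_add, mulVec_add, mulVec_smul, dd_bv0,
        dd_bv1, hd2, smul_smul, Units.mul_inv, one_smul, add_assoc]
    have e2 : LM (dd 0 1 l * colL (bv 2) : LGn) *ᵥ bv 0 = (l : F) • bv 0 + bv 2 := by
      rw [LM_mul, ← mulVec_mulVec, colL_bv0 (by simp [bv, h02.symm]), mulVec_add, dd_bv0, hd2]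
    have base : D.qA ((l : F) • bv 0 + bv 1 + bv 2) 1 + D.qA ((l : F) • bv 0) 1 + D.qA (bv 1) 1 + D.qA (bv 2) 1 =
        D.qA ((l : F) • bv 0 + bv 1) 1 + D.qA ((l : F) • bv 0 + bv 2) 1 + D.qA (bv 1 + bv 2) 1 := by
      apply D.el_inj
      simp only [el_add, el_qA, q_scale, mul_one]
      rw [q_bv0, D.q_col sw01_bv, D.q_col (A := pg (Equiv.swap 0 2)) (v := bv 2) (by
          show ((pgl _ : GLn) : Mn) *ᵥ bv 0 = _; rw [pgl_bv, Equiv.swap_apply_left]),
        D.q_col e3, D.q_col (colC_bv0 l), D.q_col e2, D.q_col (pgx_bv hm)]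
      exact D.rels.three hm k
    have e := congrArg (D.cA (scK y)) base
    simp only [map_add, cA_qA, scK_mulVec, qA_scale, nK_coeK, mul_one, ← smul_add] at e
    simpa only [qA_scale, mul_comm (nK (l : F))] using e

theorem exists_three {i j : Fin (m + 2)} (h : i ≠ j) {α β : F}
    (hα : α ≠ 0) (hβ : β ≠ 0) {r : Vn} (hri : r i = 0) (hrj : r j = 0) (hr : r ≠ 0) :
    1 ≤ m ∧ ∃ (A : LGn) (k : Fin 3) (ν : Fˣ), LM A *ᵥ ((D.ρ : F) ^ (k : ℕ) • bv 0) = (ν : F) • (α • bv i) ∧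
      LM A *ᵥ bv 1 = (ν : F) • (β • bv j) ∧ LM A *ᵥ bv 2 = (ν : F) • r := by
  obtain ⟨hm, A₀, h0, h1, h2⟩ := Sp.Glue.exists_three_cols h hα hβ hri hrj hr
  have h02 : (2 : Fin (m + 2)) ≠ 0 := fun e => by
    have := congrArg Fin.val e; simp [Nat.mod_eq_of_lt (show 2 < m + 2 by omega)] at this
  have h12 : (1 : Fin (m + 2)) ≠ 2 := fun e => by
    have := congrArg Fin.val e; simp [Nat.mod_eq_of_lt (show 2 < m + 2 by omega)] at this
  obtain ⟨e, he⟩ := D.gen (GeneralLinearGroup.det A₀)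
  have he' : D.ρ ^ e = GeneralLinearGroup.det A₀ := he
  set l : Fˣ := D.ρ ^ (e % 3)
  set ν : Fˣ := (D.ρ ^ (e / 3))⁻¹
  set B : GLn := A₀ * (dgl 0 (ν * l⁻¹) * (dgl 1 ν * dgl 2 ν))
  have hdet : (B : Mn).det = 1 := by
    show ((A₀ * (dgl 0 (ν * l⁻¹) * (dgl 1 ν * dgl 2 ν)) : GLn) : Mn).det = 1
    simp only [Units.val_mul, det_mul, dgl_det]
    rw [show (A₀ : Mn).det = ((D.ρ ^ e : Fˣ) : F) from (congrArg Units.val he').symm, ← Units.val_mul,
      ← Units.val_mul, ← Units.val_mul, ← Units.val_mul, Units.val_eq_one]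
    have : D.ρ ^ e = D.ρ ^ (e % 3) * ((D.ρ ^ (e / 3)) * D.ρ ^ (e / 3) * D.ρ ^ (e / 3)) := by
      rw [← pow_add, ← pow_add, ← pow_add]; congr 1; omega
    rw [this]
    simp only [ν, l]
    group
  refine ⟨hm, ⟨B, mem_LG.mpr (by rw [hdet, star_one])⟩, ⟨e % 3, Nat.mod_lt _ (by omega)⟩, ν, ?_, ?_, ?_⟩
  · show (B : Mn) *ᵥ _ = _
    simp only [B, Units.val_mul, ← mulVec_mulVec, mulVec_smul, Sp.Glue.dgl_bv, if_neg Fin.zero_ne_one,
      if_neg h02.symm, if_pos, h0, smul_smul]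
    congr 1
    simp only [l, Units.val_pow_eq_pow_val, Units.val_inv_eq_inv_val]
    field_simp [D.ρ.ne_zero]
  · show (B : Mn) *ᵥ _ = _
    simp only [B, Units.val_mul, ← mulVec_mulVec, mulVec_smul, Sp.Glue.dgl_bv, if_neg (Fin.zero_ne_one (n := m)).symm,
      if_neg h12, if_pos, h1, smul_smul]
  · show (B : Mn) *ᵥ _ = _
    simp only [B, Units.val_mul, ← mulVec_mulVec, mulVec_smul, Sp.Glue.dgl_bv, if_neg h02, if_neg h12.symm,
      if_pos, h2, smul_smul]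

theorem qFam : QFam D.hρ D.qA := by
  refine ⟨D.qA_zero, D.qA_scale, fun i j hij α β t => D.qA_two hij α β t, ?_⟩
  rintro u w r ⟨i, hu, hui, hwi, hri⟩ ⟨j, hw, hwj, huj, hrj⟩ hr t
  have hij : i ≠ j := fun e => hui (by rw [e]; exact huj)
  have hu' : u = u i • bv i := by
    conv_lhs => rw [hu]
    funext x; by_cases h : x = i
    · subst h; simp [bv]
    · simp [bv, h]
  have hw' : w = w j • bv j := by
    conv_lhs => rw [hw]
    funext x; by_cases h : x = j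
    · subst h; simp [bv]
    · simp [bv, h]
  obtain ⟨hm, A, k, ν, hA0, hA1, hA2⟩ := D.exists_three hij hui hwj hri hrj hr
  rw [← hu'] at hA0
  rw [← hw'] at hA1
  have hν : nK (ν : F) ≠ 0 := by rw [nK_units]; exact Units.ne_zero _
  have e := congrArg (D.cA A) (D.three_base hm k (t / nK (ν : F)))
  simp only [map_add, cA_qA] at e
  simp only [mulVec_add, hA0, hA1, hA2, ← smul_add] at e
  simp only [D.qA_scale (ν : F), mul_div_cancel₀ _ hν] at e
  exact e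

/-- The unipotent radical. -/
noncomputable def σ (S : Mn) : G := D.el (Lin D.hρ D.qA S)

theorem σ_add (S S' : Mn) : D.σ (S + S') = D.σ S * D.σ S' := by rw [σ, Lin_add, el_add]; rfl

theorem σ_zero : D.σ 0 = 1 := by rw [σ, Lin_zero, el_zero]

theorem σ_neg (S : Mn) : D.σ (-S) = (D.σ S)⁻¹ :=
  eq_inv_of_mul_eq_one_left (by rw [← D.σ_add, neg_add_cancel, D.σ_zero])

theorem σ_sq (v : Vn) (t : K) : D.σ (sq1 v t) = D.q v t := by rw [σ, Lin_sq D.hρ D.qFam, el_qA]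

theorem σ_conj (A : LGn) {S : Mn} (hS : Sᴴ = S) :
    D.Γ A * D.σ S * (D.Γ A)⁻¹ = D.σ (LM A * S * (LM A)ᴴ) := by
  rw [σ, σ, ← el_cA]
  congr 1
  exact Lin_conj D.hρ D.qFam (D.cA A) _ (fun v t => D.cA_qA A v t) hS

theorem σ_E (y : F) : D.σ (Matrix.single 0 1 y + Matrix.single 1 0 (star y)) = D.el (D.Λ y) := by
  rw [← Mij_eq D.hρ, σ]
  congr 1
  show LinHom D.hρ D.qA _ = _
  have e : ∀ v t, LinHom D.hρ D.qA (sq1 v t) = D.qA v t := Lin_sq D.hρ D.qFam
  simp only [Mij, map_add, map_sub, e, Λ, Φ, one_smul, nK_one, one_mul]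

end Glue

end Cfsg.Agent.KSG55.Herm
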