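import Cfsg.Agent.KSG55.Herm.Sym
import Cfsg.Agent.KSG55.Lin.SL2Mat

set_option autoImplicit false
set_option linter.unusedSectionVars false

/-! The relations gluing a special linear group and a long root `SL₂` into a unitary group. -/

namespace Cfsg.Agent.KSG55.Herm

open Matrix Cfsg.Agent.KSG55.Sp Cfsg.Agent.KSG55.Lin

variable {F : Type*} [Field F] [StarRing F] {m : ℕ}

/-- Determinant one inside the Levi factor. -/
def ofSL : SpecialLinearGroup (Fin (m + 2)) F →* LG F (m + 2) :=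
  SpecialLinearGroup.toGL.codRestrict (LG F (m + 2)) fun B =>
    mem_LG.mpr (by rw [show ((SpecialLinearGroup.toGL B : GL (Fin (m + 2)) F) :
      Matrix (Fin (m + 2)) (Fin (m + 2)) F) = B.1 from rfl, B.2, star_one])

theorem LM_ofSL (B : SpecialLinearGroup (Fin (m + 2)) F) : LM (ofSL B) = B.1 := rfl

theorem ofSL_inj : Function.Injective (ofSL (F := F) (m := m)) := fun _ _ h => Subtype.ext (congrArg LM h)

theorem detK_ofSL (B : SpecialLinearGroup (Fin (m + 2)) F) : detK (ofSL B) = 1 :=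
  detK_eq (by rw [LM_ofSL, B.2]; rfl)

/-- The determinant normalisation. -/
noncomputable def toSL (A : LG F (m + 2)) : SpecialLinearGroup (Fin (m + 2)) F :=
  ⟨LM (A * (dK 0 (detK A))⁻¹), by
    have h : detK (A * (dK (0 : Fin (m + 2)) (detK A))⁻¹) = 1 := by rw [map_mul, map_inv, detK_dK, mul_inv_cancel]
    have := congrArg Units.val (liftK_detK (A * (dK (0 : Fin (m + 2)) (detK A))⁻¹))
    rw [h, map_one, Units.val_one] at this
    exact this.symm⟩

theorem ofSL_toSL (A : LG F (m + 2)) : ofSL (toSL A) = A * (dK 0 (detK A))⁻¹ := LM_inj rfl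

/-- Conjugation by a diagonal element. -/
noncomputable def conjD (d : (Kf F)ˣ) (B : SpecialLinearGroup (Fin (m + 2)) F) :
    SpecialLinearGroup (Fin (m + 2)) F :=
  ⟨LM (dK 0 d * ofSL B * (dK 0 d)⁻¹), by
    have h : detK (dK (0 : Fin (m + 2)) d * ofSL B * (dK (0 : Fin (m + 2)) d)⁻¹) = 1 := by
      rw [map_mul, map_mul, map_inv, detK_dK, detK_ofSL, mul_one, mul_inv_cancel]
    have := congrArg Units.val (liftK_detK (dK (0 : Fin (m + 2)) d * ofSL B * (dK (0 : Fin (m + 2)) d)⁻¹))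
    rw [h, map_one, Units.val_one] at this
    exact this.symm⟩

theorem ofSL_conjD (d : (Kf F)ˣ) (B : SpecialLinearGroup (Fin (m + 2)) F) :
    ofSL (conjD d B) = dK 0 d * ofSL B * (dK 0 d)⁻¹ := LM_inj rfl

variable {H : Type*} [Group H] (θ : SpecialLinearGroup (Fin (m + 2)) F → H)
  (κ : SpecialLinearGroup (Fin 2) (Kf F) → H)

/-- The expression of an element of the Levi factor. -/
noncomputable def γe (A : LG F (m + 2)) : H := θ (toSL A) * κ (mH (detK A))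

/-- A conjugate of a root element. -/
noncomputable def Ve (A : LG F (m + 2)) (t : Kf F) : H := γe θ κ A * κ (mU t) * (γe θ κ A)⁻¹

/-- The exchange of the first two coordinates. -/
noncomputable def sw01 : LG F (m + 2) := pg (Equiv.swap 0 1)

/-- A lower elementary element. -/
noncomputable def x10 (c : F) : LG F (m + 2) := eg (show (1 : Fin (m + 2)) ≠ 0 from Fin.zero_ne_one.symm) c

/-- An upper elementary element. -/
noncomputable def x01 (c : F) : LG F (m + 2) := eg (show (0 : Fin (m + 2)) ≠ 1 from Fin.zero_ne_one) c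

/-- An element with first column `c e₀ + e₁`. -/
noncomputable def colC (c : Fˣ) : LG F (m + 2) := dd 0 1 c * x10 (c : F)

/-- An element with first column `e₀ + x`. -/
noncomputable def colL (x : Fin (m + 2) → F) : LG F (m + 2) :=
  rg (Function.update x 0 0) (bv 0) (by simp [bv])

/-- The conjugate unit. -/
def starU : Fˣ →* Fˣ := Units.map (starRingEnd F : F →* F)

/-- The torus element matched by the Weyl element. -/
noncomputable def tz (z : Fˣ) : LG F (m + 2) := dd 0 1 (starU z)⁻¹ * dK 1 (normK z)⁻¹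

/-- The off diagonal word. -/
noncomputable def Φw (c : Fˣ) (t : Kf F) : H :=
  Ve θ κ (colC c) t * κ (mU (-(nK (c : F) * t))) * Ve θ κ sw01 (-t)

variable (ρ : Fˣ) (hρ : star (ρ : F) ≠ (ρ : F))

/-- Its linear combination. -/
noncomputable def Λw (y : F) : H := Φw θ κ 1 (p1 (ρ : F) hρ y) * Φw θ κ ρ (p2 (ρ : F) y)

/-- The two basis elements. -/
def cs : Fin 2 → Fˣ := ![1, ρ]

/-- The relations. -/
structure Rels : Prop where
  conjH : ∀ B, κ (mH (normK ρ)) * θ B * (κ (mH (normK ρ)))⁻¹ = θ (conjD (normK ρ) B)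
  uS : γe θ κ (dd 0 1 ρ) * κ (mU 1) * (γe θ κ (dd 0 1 ρ))⁻¹ = κ (mU ((normK ρ : (Kf F)ˣ) : Kf F))
  uX : ∀ i, Commute (γe θ κ (x01 (cs ρ i : F))) (κ (mU 1))
  uC : Commute (γe θ κ (pg (cyc m))) (κ (mU 1))
  uD : Commute (γe θ κ (dK 1 (normK ρ))) (κ (mU 1))
  uX' : 1 ≤ m → ∀ (h : (1 : Fin (m + 2)) ≠ 2) (i : Fin 2), Commute (γe θ κ (eg h (cs ρ i : F))) (κ (mU 1))
  tC : Commute (γe θ κ (pg (cyc m))) (κ mT)
  tD : Commute (γe θ κ (dK 1 (normK ρ))) (κ mT)
  tX' : 1 ≤ m → ∀ (h : (1 : Fin (m + 2)) ≠ 2) (i : Fin 2), Commute (γe θ κ (eg h (cs ρ i : F))) (κ mT)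
  tS : κ mT * γe θ κ (dd 0 1 ρ) * (κ mT)⁻¹ = γe θ κ (tz ρ)
  uu : Commute (κ (mU 1)) (Ve θ κ sw01 1)
  tu : Commute (κ mT) (Ve θ κ sw01 1)
  tt : Commute (κ mT) (γe θ κ sw01 * κ mT * (γe θ κ sw01)⁻¹)
  ty : ∀ i, κ mT * γe θ κ (x10 (cs ρ i : F)) * (κ mT)⁻¹ = Λw θ κ ρ hρ (-star (cs ρ i : F))
  lin : ∀ i, γe θ κ (dd 0 1 ρ) * Φw θ κ (cs ρ i) 1 * (γe θ κ (dd 0 1 ρ))⁻¹ =
    Λw θ κ ρ hρ ((ρ : F) / star (ρ : F) * (cs ρ i : F))
  three : 1 ≤ m → ∀ k : Fin 3,
    Ve θ κ (dd 0 1 (ρ ^ (k : ℕ)) * colL (((ρ ^ (k : ℕ) : Fˣ) : F) • bv 1 + bv 2)) 1 *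
        κ (mU (nK (((ρ ^ (k : ℕ) : Fˣ) : F)))) * Ve θ κ sw01 1 * Ve θ κ (pg (Equiv.swap 0 2)) 1 =
      Ve θ κ (colC (ρ ^ (k : ℕ))) 1 * Ve θ κ (dd 0 1 (ρ ^ (k : ℕ)) * colL (bv 2)) 1 *
        Ve θ κ (pg (Equiv.swap 0 1 * Equiv.swap 1 2) * x10 1) 1

end Cfsg.Agent.KSG55.Herm
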