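import Cfsg.Agent.KSG55.Herm.Levi

set_option autoImplicit false
set_option linter.unusedSectionVars false

/-! A family indexed by vectors extends linearly to Hermitian matrices. -/

namespace Cfsg.Agent.KSG55.Herm

open Matrix Cfsg.Agent.KSG55.Sp

variable {F : Type*} [Field F] [StarRing F]

/-- The norm of any element. -/
def nK (c : F) : Kf F := ⟨c * star c, mem_Kf.mpr (by rw [star_mul', star_star, mul_comm])⟩

theorem nK_coe (c : F) : (nK c : F) = c * star c := rfl

theorem nK_one : nK (1 : F) = 1 := Subtype.ext (by simp [nK_coe])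

theorem nK_zero : nK (0 : F) = 0 := Subtype.ext (by simp [nK_coe])

theorem nK_mul (a b : F) : nK (a * b) = nK a * nK b :=
  Subtype.ext (by simp [nK_coe, star_mul']; ring)

theorem nK_coeK (t : Kf F) : nK (t : F) = t ^ 2 := Subtype.ext (by simp [nK_coe, star_coeK, sq])

theorem nK_units (z : Fˣ) : nK (z : F) = ((normK z : (Kf F)ˣ) : Kf F) := Subtype.ext rfl

section Basis

variable (ω : F)

/-- The second coordinate. -/
def p2 (x : F) : Kf F :=
  ⟨(x - star x) / (ω - star ω), mem_Kf.mpr (by
    rw [star_div₀, star_sub, star_sub, star_star, star_star, ← neg_sub x, ← neg_sub ω, neg_div_neg_eq])⟩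

/-- The first coordinate. -/
def p1 (hω : star ω ≠ ω) (x : F) : Kf F :=
  ⟨x - (x - star x) / (ω - star ω) * ω, mem_Kf.mpr (by
    have h : ω - star ω ≠ 0 := sub_ne_zero.mpr (Ne.symm hω)
    have h' : star ω - ω ≠ 0 := sub_ne_zero.mpr hω
    rw [star_sub, star_mul', star_div₀, star_sub, star_sub, star_star, star_star]
    field_simp
    ring)⟩

end Basis

variable {ω : F} (hω : star ω ≠ ω)

theorem p_eq (x : F) : (p1 ω hω x : F) + (p2 ω x : F) * ω = x := by simp [p1, p2]

theorem p2_add (x y : F) : p2 ω (x + y) = p2 ω x + p2 ω y :=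
  Subtype.ext (by simp [p2, star_add]; ring)

theorem p1_add (x y : F) : p1 ω hω (x + y) = p1 ω hω x + p1 ω hω y :=
  Subtype.ext (by simp [p1, star_add]; ring)

theorem p1_coe (t : Kf F) : p1 ω hω (t : F) = t := Subtype.ext (by simp [p1, star_coeK])

theorem p2_coe (t : Kf F) : p2 ω (t : F) = 0 := Subtype.ext (by simp [p2, star_coeK])

include hω in
theorem p2_mul_omega (t : Kf F) : p2 ω ((t : F) * ω) = t := by
  have h : ω - star ω ≠ 0 := sub_ne_zero.mpr (Ne.symm hω)
  refine Subtype.ext ?_
  simp [p2, star_mul', star_coeK]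
  field_simp

theorem p1_mul_omega (t : Kf F) : p1 ω hω ((t : F) * ω) = 0 := by
  have h : ω - star ω ≠ 0 := sub_ne_zero.mpr (Ne.symm hω)
  refine Subtype.ext ?_
  simp [p1, star_mul', star_coeK]
  field_simp
  ring

theorem p1_zero : p1 ω hω 0 = 0 := by simpa using p1_coe hω 0

theorem p2_zero : p2 ω (0 : F) = 0 := by simpa using p2_coe (ω := ω) 0

variable {n : ℕ} {M : Type*} [AddCommGroup M]

/-- The off diagonal combination. -/
def Lij (q : (Fin n → F) → Kf F →+ M) (i j : Fin n) (y : F) : M :=
  (q (bv i + bv j) (p1 ω hω y) - q (bv i) (p1 ω hω y) - q (bv j) (p1 ω hω y)) +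
    (q (ω • bv i + bv j) (p2 ω y) - q (bv i) (nK ω * p2 ω y) - q (bv j) (p2 ω y))

theorem Lij_add (q : (Fin n → F) → Kf F →+ M) (i j : Fin n) (x y : F) :
    Lij hω q i j (x + y) = Lij hω q i j x + Lij hω q i j y := by
  simp only [Lij, p1_add, p2_add, mul_add, map_add]; abel

theorem Lij_zero (q : (Fin n → F) → Kf F →+ M) (i j : Fin n) : Lij hω q i j 0 = 0 := by
  simp [Lij, p1_zero, p2_zero]

/-- The hypotheses. -/
structure QFam (q : (Fin n → F) → Kf F →+ M) : Prop where
  zero : ∀ t, q 0 t = 0
  scale : ∀ (c : F) v t, q (c • v) t = q v (nK c * t)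
  two : ∀ i j, i ≠ j → ∀ (α β : F) (t : Kf F),
    q (α • bv i + β • bv j) t = q (bv i) (nK α * t) + q (bv j) (nK β * t) + Lij hω q i j (α * star β * (t : F))
  three : ∀ u w r : Fin n → F, (∃ i, u = Pi.single i (u i) ∧ u i ≠ 0 ∧ w i = 0 ∧ r i = 0) →
    (∃ j, w = Pi.single j (w j) ∧ w j ≠ 0 ∧ u j = 0 ∧ r j = 0) → r ≠ 0 →
    ∀ t, q (u + w + r) t + q u t + q w t + q r t = q (u + w) t + q (u + r) t + q (w + r) t

/-- The linear extension. -/
def Lin (q : (Fin n → F) → Kf F →+ M) (S : Matrix (Fin n) (Fin n) F) : M :=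
  (∑ i, q (bv i) (p1 ω hω (S i i))) +
    ∑ p ∈ (Finset.univ.filter fun p : Fin n × Fin n => p.1 < p.2), Lij hω q p.1 p.2 (S p.1 p.2)

variable {q : (Fin n → F) → Kf F →+ M}

theorem Lin_add (S S' : Matrix (Fin n) (Fin n) F) : Lin hω q (S + S') = Lin hω q S + Lin hω q S' := by
  simp only [Lin, Matrix.add_apply, p1_add, map_add, Lij_add, Finset.sum_add_distrib]
  abel

theorem Lin_zero : Lin hω q 0 = 0 := by simp [Lin, p1_zero, Lij_zero]

/-- The same as a homomorphism. -/
def LinHom (q : (Fin n → F) → Kf F →+ M) : Matrix (Fin n) (Fin n) F →+ M where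
  toFun := Lin hω q
  map_zero' := Lin_zero hω
  map_add' := Lin_add hω

/-- The square of a vector. -/
def sq1 (v : Fin n → F) (t : Kf F) : Matrix (Fin n) (Fin n) F := (t : F) • vecMulVec v (star v)

theorem sq1_apply (v : Fin n → F) (t : Kf F) (a b : Fin n) : sq1 v t a b = (t : F) * (v a * star (v b)) := by
  simp [sq1, vecMulVec_apply]

theorem sq1_herm (v : Fin n → F) (t : Kf F) : (sq1 v t)ᴴ = sq1 v t := by
  ext a b
  simp only [conjTranspose_apply, sq1_apply, star_mul', star_coeK, star_star]
  ring

theorem sq1_conj (A : Matrix (Fin n) (Fin n) F) (v : Fin n → F) (t : Kf F) :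
    A * sq1 v t * Aᴴ = sq1 (A *ᵥ v) t := by
  rw [sq1, sq1, Matrix.mul_smul, Matrix.smul_mul, mul_vecMulVec, vecMulVec_mul, star_mulVec]

/-- The matrix of the off diagonal combination. -/
def Mij (i j : Fin n) (y : F) : Matrix (Fin n) (Fin n) F :=
  (sq1 (bv i + bv j) (p1 ω hω y) - sq1 (bv i) (p1 ω hω y) - sq1 (bv j) (p1 ω hω y)) +
    (sq1 (ω • bv i + bv j) (p2 ω y) - sq1 (bv i) (nK ω * p2 ω y) - sq1 (bv j) (p2 ω y))

theorem star_bv (i : Fin n) : star (bv i : Fin n → F) = bv i := by
  funext a; simp [bv, Pi.single_apply]; split_ifs <;> simp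

theorem Mij_eq (i j : Fin n) (y : F) : Mij hω i j y = Matrix.single i j y + Matrix.single j i (star y) := by
  have e := p_eq hω y
  have e' : (p1 ω hω y : F) + (p2 ω y : F) * star ω = star y := by
    conv_rhs => rw [← e]
    simp [star_coeK]
  simp only [Mij, sq1, Subfield.coe_mul, nK_coe, star_add, star_smul, star_bv, add_vecMulVec, vecMulVec_add,
    smul_vecMulVec, vecMulVec_smul, smul_add, smul_smul]
  have hs : ∀ (k l : Fin n) (c : F), Matrix.single k l c = c • vecMulVec (bv k) (bv l) := fun k l c => by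
    ext a b; simp [vecMulVec_apply, single_apply, bv, Pi.single_apply, ite_and, eq_comm]; split_ifs <;> simp
  rw [hs i j y, hs j i (star y)]
  generalize p1 ω hω y = A at e e' ⊢
  generalize p2 ω y = B at e e' ⊢
  rw [← e', ← e]
  module

/-- A Hermitian matrix as a sum of squares. -/
theorem herm_decomp {S : Matrix (Fin n) (Fin n) F} (hS : Sᴴ = S) :
    S = (∑ i, sq1 (bv i) (p1 ω hω (S i i))) +
      ∑ p ∈ (Finset.univ.filter fun p : Fin n × Fin n => p.1 < p.2), Mij hω p.1 p.2 (S p.1 p.2) := by
  have hs : ∀ a b, star (S a b) = S b a := fun a b => by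
    conv_rhs => rw [← hS, conjTranspose_apply]
  have hd : ∀ i, (p1 ω hω (S i i) : F) = S i i := fun i => by
    have := p1_coe hω ⟨S i i, mem_Kf.mpr (hs i i)⟩
    exact congrArg Subtype.val this
  simp only [Mij_eq]
  ext a b
  simp only [Matrix.add_apply, Matrix.sum_apply, sq1_apply, hd, single_apply, bv, Pi.single_apply]
  by_cases hab : a = b
  · subst hab
    rw [Finset.sum_eq_single a (fun i _ hi => by simp [Ne.symm hi]) (by simp), Finset.sum_eq_zero, add_zero]
    · simp
    · intro p hp
      rw [Finset.mem_filter] at hp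
      rw [if_neg fun h => hp.2.ne (h.1.trans h.2.symm), if_neg fun h => hp.2.ne (h.2.trans h.1.symm), add_zero]
  · rw [Finset.sum_eq_zero (fun i _ => by
      by_cases h : a = i
      · subst h; simp [Ne.symm hab]
      · simp [h]), zero_add]
    rcases lt_or_gt_of_ne hab with h | h
    · rw [Finset.sum_eq_single (a, b)]
      · simp [Ne.symm hab]
      · intro p hp hne
        rw [Finset.mem_filter] at hp
        rw [if_neg fun e => hne (Prod.ext e.1 e.2), if_neg (fun e : p.2 = a ∧ p.1 = b => (not_lt.mpr h.le) (e.1 ▸ e.2 ▸ hp.2)), add_zero]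
      · simp [h]
    · rw [Finset.sum_eq_single (b, a)]
      · simp [hab, hs]
      · intro p hp hne
        rw [Finset.mem_filter] at hp
        rw [if_neg (fun e : p.1 = a ∧ p.2 = b => (not_lt.mpr h.le) (e.1 ▸ e.2 ▸ hp.2)), if_neg fun e => hne (Prod.ext e.2 e.1), add_zero]
      · simp [h]

theorem Lin_sq (H : QFam hω q) (v : Fin n → F) (t : Kf F) : Lin hω q (sq1 v t) = q v t := by
  classical
  suffices key : ∀ (s : Finset (Fin n)) (v : Fin n → F), (∀ i, i ∉ s → v i = 0) →
      ∀ t, Lin hω q (sq1 v t) = q v t from key Finset.univ v (by simp) t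
  clear v t
  have hdiag : ∀ (v : Fin n → F) (t : Kf F) k, p1 ω hω (sq1 v t k k) = nK (v k) * t := fun v t k => by
    rw [sq1_apply, show (t : F) * (v k * star (v k)) = ((nK (v k) * t : Kf F) : F) by
      rw [Subfield.coe_mul, nK_coe]; ring, p1_coe]
  have two : ∀ i j : Fin n, i < j → ∀ (α β : F) (t : Kf F),
      Lin hω q (sq1 (α • bv i + β • bv j) t) = q (α • bv i + β • bv j) t := by
    intro i j hij α β t
    have hne : i ≠ j := hij.ne
    set v : Fin n → F := α • bv i + β • bv j with hv
    have vi : v i = α := by simp [hv, bv, hne.symm]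
    have vj : v j = β := by simp [hv, bv, hne]
    have vk : ∀ k, k ≠ i → k ≠ j → v k = 0 := fun k h1 h2 => by simp [hv, bv, h1, h2]
    rw [H.two i j hne, Lin]
    congr 1
    · have : ∀ k ∉ ({i, j} : Finset (Fin n)), q (bv k) (p1 ω hω (sq1 v t k k)) = 0 := by
        intro k hk
        simp only [Finset.mem_insert, Finset.mem_singleton, not_or] at hk
        rw [hdiag, vk k hk.1 hk.2, nK_zero, zero_mul, map_zero]
      rw [← Finset.sum_subset (Finset.subset_univ ({i, j} : Finset (Fin n))) fun k _ hk => this k hk,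
        Finset.sum_pair hne, hdiag, hdiag, vi, vj]
    · rw [Finset.sum_eq_single (i, j)]
      · rw [sq1_apply, vi, vj]; congr 1; ring
      · intro p hp hne'
        rw [Finset.mem_filter] at hp
        simp only [sq1_apply]
        by_cases h1 : p.1 = i ∨ p.1 = j
        · by_cases h2 : p.2 = i ∨ p.2 = j
          · exfalso
            rcases h1 with h1 | h1 <;> rcases h2 with h2 | h2
            · exact absurd hp.2 (by rw [h1, h2]; exact lt_irrefl _)
            · exact hne' (Prod.ext h1 h2)
            · exact absurd hp.2 (by rw [h1, h2]; exact not_lt.mpr hij.le)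
            · exact absurd hp.2 (by rw [h1, h2]; exact lt_irrefl _)
          · push Not at h2; simp [vk _ h2.1 h2.2, Lij_zero]
        · push Not at h1; simp [vk _ h1.1 h1.2, Lij_zero]
      · simp [hij]
  intro s
  induction s using Finset.strongInduction with
  | _ s ih =>
    intro v hv t
    by_cases hzero : ∃ i ∈ s, v i = 0
    · obtain ⟨i, hi, hvi⟩ := hzero
      refine ih (s.erase i) (Finset.erase_ssubset hi) v (fun k hk => ?_) t
      by_cases hki : k = i
      · rw [hki, hvi]
      · exact hv k fun h => hk (Finset.mem_erase.mpr ⟨hki, h⟩)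
    push Not at hzero
    rcases s.eq_empty_or_nonempty with rfl | ⟨i, hi⟩
    · rw [show v = 0 from funext fun k => hv k (by simp), H.zero]
      simp [sq1, vecMulVec_zero, Lin_zero]
    set u : Fin n → F := Pi.single i (v i) with hu
    rcases (s.erase i).eq_empty_or_nonempty with he | ⟨j, hj⟩
    · have hvu : v = v i • bv i := by
        funext k
        by_cases hk : k = i
        · subst hk; simp [bv]
        · rw [hv k fun h => by have := Finset.mem_erase.mpr ⟨hk, h⟩; rw [he] at this; simp at this]
          simp [bv, hk]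
      rw [hvu, H.scale, Lin]
      rw [Finset.sum_eq_single (s := (Finset.univ : Finset (Fin n))) i (fun k _ hk => by
          rw [hdiag]; simp [bv, hk, nK_zero]) (by simp),
        Finset.sum_eq_zero (s := Finset.univ.filter fun p : Fin n × Fin n => p.1 < p.2) (fun p hp => by
          rw [Finset.mem_filter] at hp
          by_cases h1 : p.1 = i
          · simp [sq1_apply, bv, show p.2 ≠ i from fun h => absurd hp.2 (by rw [h1, h]; exact lt_irrefl _), Lij_zero]
          · simp [sq1_apply, bv, h1, Lij_zero]), add_zero, hdiag]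
      simp [bv]
    rcases ((s.erase i).erase j).eq_empty_or_nonempty with he | ⟨l, hl⟩
    · have hij : j ≠ i := Finset.ne_of_mem_erase hj
      have hvu : v = v i • bv i + v j • bv j := by
        funext k
        by_cases hk : k = i
        · subst hk; simp [bv, hij.symm]
        by_cases hk' : k = j
        · subst hk'; simp [bv, hij]
        rw [hv k fun h => by
          have := Finset.mem_erase.mpr ⟨hk', Finset.mem_erase.mpr ⟨hk, h⟩⟩; rw [he] at this; simp at this]
        simp [bv, hk, hk']
      rw [hvu]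
      rcases lt_or_gt_of_ne hij with h | h
      · rw [add_comm]; exact two j i h _ _ _
      · exact two i j h _ _ _
    set w : Fin n → F := Pi.single j (v j) with hw
    set r := v - u - w with hr
    have hij : j ≠ i := Finset.ne_of_mem_erase hj
    have hls := Finset.mem_of_mem_erase hl
    have hjs := Finset.mem_of_mem_erase hj
    have hlj : l ≠ j := Finset.ne_of_mem_erase hl
    have hli : l ≠ i := Finset.ne_of_mem_erase hls
    have hv3 : v = u + w + r := by rw [hr]; abel
    have ri : r i = 0 := by simp [hr, hu, hw, hij.symm]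
    have rj : r j = 0 := by simp [hr, hu, hw, hij]
    have rout : ∀ k, k ∉ s → r k = 0 := fun k hk => by
      simp [hr, hu, hw, hv k hk, show k ≠ i from fun e => hk (e ▸ hi), show k ≠ j from fun e => hk (e ▸ hjs)]
    have sub : ∀ x : Fin n → F, (∀ k, k ∉ s → x k = 0) → ∀ k ∈ s, x k = 0 → ∀ t,
        Lin hω q (sq1 x t) = q x t := fun x hx k hk hxk t =>
      ih (s.erase k) (Finset.erase_ssubset hk) x (fun a ha => by
        by_cases e : a = k
        · rw [e, hxk]
        · exact hx a fun h => ha (Finset.mem_erase.mpr ⟨e, h⟩)) t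
    have uout : ∀ k, k ∉ s → u k = 0 := fun k hk => by simp [hu, show k ≠ i from fun e => hk (e ▸ hi)]
    have wout : ∀ k, k ∉ s → w k = 0 := fun k hk => by simp [hw, show k ≠ j from fun e => hk (e ▸ hjs)]
    have h3 := H.three u w r ⟨i, by simp [hu], by simpa [hu] using hzero i hi, by simp [hw, hij.symm], ri⟩
      ⟨j, by simp [hw], by simpa [hw] using hzero j hjs, by simp [hu, hij], rj⟩
      (fun h => hzero l (Finset.mem_of_mem_erase hls) (by
        have := congrFun h l; simpa [hr, hu, hw, hli, hlj] using this)) t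
    have e1 := sub (u + w) (fun k hk => by simp [uout k hk, wout k hk]) l (Finset.mem_of_mem_erase hls)
      (by simp [hu, hw, hli, hlj]) t
    have e2 := sub (u + r) (fun k hk => by simp [uout k hk, rout k hk]) j hjs (by simp [hu, hij, rj]) t
    have e3 := sub (w + r) (fun k hk => by simp [wout k hk, rout k hk]) i hi (by simp [hw, hij.symm, ri]) t
    have e4 := sub u uout j hjs (by simp [hu, hij]) t
    have e5 := sub w wout i hi (by simp [hw, hij.symm]) t
    have e6 := sub r rout i hi ri t
    have hid : sq1 v t + sq1 u t + sq1 w t + sq1 r t = sq1 (u + w) t + sq1 (u + r) t + sq1 (w + r) t := by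
      rw [hv3]
      simp only [sq1, star_add, vecMulVec_add, add_vecMulVec, smul_add]
      abel
    have := congrArg (LinHom hω q) hid
    simp only [map_add] at this
    change Lin hω q _ + Lin hω q _ + Lin hω q _ + Lin hω q _ = Lin hω q _ + Lin hω q _ + Lin hω q _ at this
    rw [e1, e2, e3, e4, e5, e6, ← h3, ← hv3] at this
    exact add_right_cancel (add_right_cancel (add_right_cancel this))

/-- Conjugation of the linear extension. -/
theorem Lin_conj (H : QFam hω q) (φ : M →+ M) (A : Matrix (Fin n) (Fin n) F)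
    (hφ : ∀ v t, φ (q v t) = q (A *ᵥ v) t)
    {S : Matrix (Fin n) (Fin n) F} (hS : Sᴴ = S) : φ (Lin hω q S) = Lin hω q (A * S * Aᴴ) := by
  conv_rhs => rw [herm_decomp hω hS]
  simp only [Mij, Matrix.mul_add, Matrix.add_mul, Matrix.mul_sub, Matrix.sub_mul, Matrix.mul_sum, Matrix.sum_mul,
    sq1_conj]
  show φ (Lin hω q S) = LinHom hω q _
  have e : ∀ v t, LinHom hω q (sq1 v t) = q v t := Lin_sq hω H
  simp only [map_add, map_sub, map_sum, e, Lin, Lij, hφ]

end Cfsg.Agent.KSG55.Herm
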