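import Cfsg.Agent.KSG55.Herm.Radical
import Cfsg.Agent.KSG55.Sp.Tmove

set_option autoImplicit false
set_option linter.unusedSectionVars false

/-! The long root Weyl elements and their action on the parabolic. -/

namespace Cfsg.Agent.KSG55.Herm

open Matrix Cfsg.Agent.KSG55.Sp Cfsg.Agent.KSG55.Lin

variable {F : Type*} [Field F] [StarRing F] {m : ℕ}

local notation "GLn" => GL (Fin (m + 2)) F
local notation "LGn" => LG F (m + 2)
local notation "Vn" => Fin (m + 2) → F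
local notation "Mn" => Matrix (Fin (m + 2)) (Fin (m + 2)) F
local notation "K" => Kf F

/-- A Hermitian rank two form. -/
def sy (v w : Vn) : Mn := vecMulVec v (star w) + vecMulVec w (star v)

theorem sy_herm (v w : Vn) : (sy v w)ᴴ = sy v w := by
  rw [sy, conjTranspose_add, conjTranspose_vecMulVec, conjTranspose_vecMulVec, star_star, star_star]; abel

theorem sy_neg (v w : Vn) : sy (-v) w = -sy v w := by
  simp [sy, neg_vecMulVec, vecMulVec_neg, add_comm]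

theorem sy_add (v v' w : Vn) : sy (v + v') w = sy v w + sy v' w := by
  simp only [sy, star_add, add_vecMulVec, vecMulVec_add]; abel

theorem sy_conj (A : Mn) (v w : Vn) : A * sy v w * Aᴴ = sy (A *ᵥ v) (A *ᵥ w) := by
  simp [sy, Matrix.mul_add, Matrix.add_mul, mul_vecMulVec, vecMulVec_mul, star_mulVec]

theorem sy_swap (i j : Fin (m + 2)) (c : F) :
    sy (Pi.single i c) (bv j) = sy (Pi.single j (star c)) (bv i) := by
  ext a b
  simp [sy, vecMulVec_apply, bv, Pi.single_apply]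
  split_ifs <;> simp_all [add_comm]

/-- The fixing condition. -/
def FixAt (i : Fin (m + 2)) (A : LGn) : Prop := LM A *ᵥ bv i = bv i ∧ bv i ᵥ* LM A = bv i

theorem fixAt_pg {i : Fin (m + 2)} {s : Equiv.Perm (Fin (m + 2))} (h : s i = i) : FixAt (F := F) i (pg s) :=
  Sp.fixAt_pgl (F := F) h

theorem fixAt_dK {i j : Fin (m + 2)} (h : i ≠ j) (d : Kˣ) : FixAt i (dK j d : LGn) := Sp.fixAt_dgl h (liftK d)

theorem fixAt_rg {i : Fin (m + 2)} {u w : Vn} (h : w ⬝ᵥ u = 0) (hu : u i = 0) (hw : w i = 0) :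
    FixAt i (rg u w h) := Sp.fixAt_rk1 h hu hw

/-- The rank one element moved by a Weyl element. -/
noncomputable def Y (i : Fin (m + 2)) (w : Vn) (h : w i = 0) : LGn := rg w (bv i) (by simp [bv, h])

theorem eg_eq_Y {i j : Fin (m + 2)} (h : i ≠ j) (c : F) :
    eg h c = Y j (Pi.single i c) (by simp [Ne.symm h]) := rfl

theorem Y_conj (A : LGn) (i : Fin (m + 2)) {w w' : Vn} (h : w i = 0) {l : Fin (m + 2)} (h' : w' l = 0)
    (hr : bv i ᵥ* LM A⁻¹ = bv l) (hw : LM A *ᵥ w = w') : A * Y i w h * A⁻¹ = Y l w' h' := by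
  refine Subtype.ext ?_
  show (A : GLn) * rk1 w (bv i) (by simp [bv, h]) * (A : GLn)⁻¹ = rk1 w' (bv l) (by simp [bv, h'])
  have hr' : bv i ᵥ* (((A : GLn)⁻¹ : GLn) : Mn) = bv l := hr
  have hw' : ((A : GLn) : Mn) *ᵥ w = w' := hw
  apply Units.ext
  rw [conj_rk1 _ _ _ _ (by rw [hr', hw']; simpa [bv] using h'), rk1_coe, rk1_coe, hr', hw']

theorem Y_add {i : Fin (m + 2)} {v w : Vn} (hv : v i = 0) (hw : w i = 0) :
    Y i v hv * Y i w hw = Y i (v + w) (by simp [hv, hw]) := by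
  apply LM_inj
  rw [LM_mul, Y, Y, Y, rg_coe, rg_coe, rg_coe, mul_add, mul_one, add_mul, one_mul, vecMulVec_mul_vecMulVec,
    show bv i ⬝ᵥ w = 0 by simp [bv, hw], zero_smul, vecMulVec_zero, add_zero, add_vecMulVec, add_assoc]

theorem Y_zero (i : Fin (m + 2)) : Y (F := F) i 0 rfl = 1 := by
  apply LM_inj
  rw [Y, rg_coe, zero_vecMulVec, add_zero]; rfl

theorem inv_row {A : LGn} {i : Fin (m + 2)} (h : bv i ᵥ* LM A = bv i) : bv i ᵥ* LM A⁻¹ = bv i := by
  conv_lhs => rw [← h, vecMul_vecMul, LM_mul_inv, vecMul_one]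

namespace Glue

variable {G : Type*} [Group G] (D : Glue F m G)

/-- The long root Weyl element at a coordinate. -/
noncomputable def Ti (i : Fin (m + 2)) : G :=
  D.Γ (pg (Equiv.swap 0 i)) * D.κ mT * (D.Γ (pg (Equiv.swap 0 i)))⁻¹

theorem Ti_zero : D.Ti 0 = D.κ mT := by
  rw [Ti, Equiv.swap_self, show (Equiv.refl (Fin (m + 2))) = (1 : Equiv.Perm (Fin (m + 2))) from rfl, map_one,
    map_one, one_mul, inv_one, mul_one]

theorem T_sq : D.κ mT * D.κ mT = D.Γ (dK 0 (-1)) := by rw [← map_mul, mT_sq, D.Γ_dK0]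

variable [Finite F]

theorem σ_diag (i : Fin (m + 2)) (t : K) : D.σ (Matrix.single i i (t : F)) = D.q (bv i) t := by
  rw [← D.σ_sq]
  congr 1
  ext a b
  rw [sq1_apply]
  simp [single_apply, bv, Pi.single_apply, ite_and, eq_comm]
  split_ifs <;> simp

theorem Ti_perm (π : Equiv.Perm (Fin (m + 2))) (j : Fin (m + 2)) :
    D.Γ (pg π) * D.Ti j * (D.Γ (pg π))⁻¹ = D.Ti (π j) := by
  set r := Equiv.swap 0 (π j) * π * Equiv.swap 0 j
  have hr : r 0 = 0 := by simp [r]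
  have hc := D.comm_T (A := pg r) (fixAt_pg hr).1 (fixAt_pg hr).2
  have e : π * Equiv.swap 0 j = Equiv.swap 0 (π j) * r := by
    simp only [r, ← mul_assoc, Equiv.swap_mul_self, one_mul]
  rw [Ti, Ti, show D.Γ (pg π) * (D.Γ (pg (Equiv.swap 0 j)) * D.κ mT * (D.Γ (pg (Equiv.swap 0 j)))⁻¹) *
    (D.Γ (pg π))⁻¹ = (D.Γ (pg π) * D.Γ (pg (Equiv.swap 0 j))) * D.κ mT *
    (D.Γ (pg π) * D.Γ (pg (Equiv.swap 0 j)))⁻¹ by group, ← map_mul, ← map_mul, e, map_mul, map_mul,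
    show D.Γ (pg (Equiv.swap 0 (π j))) * D.Γ (pg r) * D.κ mT *
      (D.Γ (pg (Equiv.swap 0 (π j))) * D.Γ (pg r))⁻¹ =
      D.Γ (pg (Equiv.swap 0 (π j))) * (D.Γ (pg r) * D.κ mT * (D.Γ (pg r))⁻¹) *
        (D.Γ (pg (Equiv.swap 0 (π j))))⁻¹ by group, hc.eq, mul_inv_cancel_right]

theorem swap_LM (i : Fin (m + 2)) :
    LM (pg (Equiv.swap 0 i) : LGn) *ᵥ bv 0 = bv i ∧ LM (pg (Equiv.swap 0 i) : LGn) *ᵥ bv i = bv 0 ∧
      (pg (Equiv.swap 0 i) : LGn)⁻¹ = pg (Equiv.swap 0 i) ∧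
      (LM (pg (Equiv.swap 0 i) : LGn))ᵀ = LM (pg (Equiv.swap 0 i) : LGn) := by
  refine ⟨?_, ?_, by rw [← map_inv, Equiv.swap_inv], ?_⟩
  · show ((pgl _ : GLn) : Mn) *ᵥ _ = _; rw [pgl_bv, Equiv.swap_apply_left]
  · show ((pgl _ : GLn) : Mn) *ᵥ _ = _; rw [pgl_bv, Equiv.swap_apply_right]
  · show ((pgl _ : GLn) : Mn)ᵀ = ((pgl _ : GLn) : Mn); rw [pgl_transpose, Equiv.swap_inv]

theorem comm_Ti {i : Fin (m + 2)} {A : LGn} (h : FixAt i A) : Commute (D.Γ A) (D.Ti i) := by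
  set s : LGn := pg (Equiv.swap 0 i)
  obtain ⟨hs, hs', hinv, hT⟩ := swap_LM (F := F) i
  have h1 : LM (s⁻¹ * A * s) *ᵥ bv 0 = bv 0 := by
    rw [hinv, LM_mul, LM_mul, ← mulVec_mulVec, ← mulVec_mulVec, hs, h.1, hs']
  have h2 : bv 0 ᵥ* LM (s⁻¹ * A * s) = bv 0 := by
    have e : ∀ v, v ᵥ* LM s = LM s *ᵥ v := fun v => by rw [← mulVec_transpose, hT]
    rw [hinv, LM_mul, LM_mul, ← vecMul_vecMul, ← vecMul_vecMul, e (bv 0), hs, h.2, e, hs']
  have := (D.comm_T h1 h2).map (MulAut.conj (D.Γ s)).toMonoidHom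
  simp only [MulEquiv.coe_toMonoidHom, MulAut.conj_apply] at this
  rw [Γ_conj, show s * (s⁻¹ * A * s) * s⁻¹ = A by group] at this
  exact this

theorem Ti_comm (i j : Fin (m + 2)) : Commute (D.Ti i) (D.Ti j) := by
  rcases eq_or_ne i j with rfl | hij
  · exact Commute.refl _
  have h01 : Commute (D.Ti 0) (D.Ti 1) := by rw [Ti_zero]; exact D.rels.tt
  obtain ⟨π, hπ0, hπ1⟩ := Sp.Glue.exists_perm2 hij
  have := h01.map (MulAut.conj (D.Γ (pg π))).toMonoidHom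
  simp only [MulEquiv.coe_toMonoidHom, MulAut.conj_apply, Ti_perm, hπ0, hπ1] at this
  exact this

theorem Ti0_comm_q {v : Vn} (hv : v 0 = 0) (t : K) : Commute (D.κ mT) (D.q v t) := by
  rcases eq_or_ne v 0 with rfl | hv0
  · rw [q_zero]; exact Commute.one_right _
  have base : ∀ t, Commute (D.κ mT) (D.q (bv 1) t) := by
    intro t
    induction t using sq_induction with
    | h0 => rw [q_at0]; exact Commute.one_right _
    | hadd x y hx hy => rw [q_add]; exact hx.mul_right hy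
    | hneg x hx => rw [q_neg]; exact hx.inv_right
    | hsq y =>
      have h1 : Commute (D.κ mT) (D.q (bv 1) 1) := by
        rw [D.q_col sw01_bv]
        exact D.rels.tu
      have hf := fixAt_dK (F := F) (Fin.zero_ne_one (n := m)) y
      have := h1.map (MulAut.conj (D.Γ (dK 1 y))).toMonoidHom
      simp only [MulEquiv.coe_toMonoidHom, MulAut.conj_apply, q_conj, dK_bv, if_pos, q_scale, nK_coeK, mul_one,
        (D.comm_T hf.1 hf.2).eq, mul_inv_cancel_right] at this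
      exact this
  obtain ⟨i, hi⟩ := Function.ne_iff.mp hv0
  have hi0 : i ≠ 0 := fun e => hi (by rw [e]; exact hv)
  obtain ⟨A, z, hA0, hA1, hAr⟩ := exists_colL1 hi0 hi
  have hz : nK (z : F) ≠ 0 := by rw [nK_units]; exact Units.ne_zero _
  have := (base (t / nK (z : F))).map (MulAut.conj (D.Γ A)).toMonoidHom
  simp only [MulEquiv.coe_toMonoidHom, MulAut.conj_apply, q_conj, hA1, q_scale, mul_div_cancel₀ _ hz,
    (D.comm_T hA0 (hAr hv)).eq, mul_inv_cancel_right] at this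
  exact this

theorem Ti_comm_q {i : Fin (m + 2)} {v : Vn} (hv : v i = 0) (t : K) : Commute (D.Ti i) (D.q v t) := by
  have h0 : (LM (pg (Equiv.swap 0 i) : LGn) *ᵥ v) 0 = 0 := by
    show (((pgl _ : GLn) : Mn) *ᵥ v) 0 = 0
    rw [pgl_mulVec]; simpa using hv
  have := (D.Ti0_comm_q h0 t).map (MulAut.conj (D.Γ (pg (Equiv.swap 0 i)))).toMonoidHom
  simp only [MulEquiv.coe_toMonoidHom, MulAut.conj_apply, q_conj, mulVec_mulVec, ← LM_mul, ← map_mul,
    Equiv.swap_mul_self, map_one, LM_one, one_mulVec] at this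
  exact this

theorem Ti_comm_σ {i : Fin (m + 2)} {S : Mn} (hrow : ∀ j, S i j = 0) (hcol : ∀ j, S j i = 0) :
    Commute (D.Ti i) (D.σ S) := by
  have key : Lin D.hρ D.qA S ∈ (⨆ (v : {v : Vn // v i = 0}), (D.qA v.1).range) := by
    refine AddSubgroup.add_mem _ (AddSubgroup.sum_mem _ fun k _ => ?_) (AddSubgroup.sum_mem _ fun p _ => ?_)
    · by_cases hk : k = i
      · subst hk
        rw [hrow, p1_zero, map_zero]; exact AddSubgroup.zero_mem _
      · exact AddSubgroup.mem_iSup_of_mem ⟨bv k, by simp [bv, Ne.symm hk]⟩ ⟨_, rfl⟩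
    · by_cases hp : p.1 = i ∨ p.2 = i
      · have : S p.1 p.2 = 0 := by rcases hp with h | h <;> rw [h] <;> simp [hrow, hcol]
        rw [this, Lij_zero]; exact AddSubgroup.zero_mem _
      · push Not at hp
        have hm : ∀ (v : Vn) (t : K), v i = 0 →
            D.qA v t ∈ (⨆ (v : {v : Vn // v i = 0}), (D.qA v.1).range) := fun v t hv =>
          AddSubgroup.mem_iSup_of_mem ⟨v, hv⟩ ⟨t, rfl⟩
        have h1 : (bv p.1 : Vn) i = 0 := by simp [bv, Ne.symm hp.1]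
        have h2 : (bv p.2 : Vn) i = 0 := by simp [bv, Ne.symm hp.2]
        exact AddSubgroup.add_mem _ (AddSubgroup.sub_mem _ (AddSubgroup.sub_mem _
            (hm _ _ (by simp [h1, h2])) (hm _ _ h1)) (hm _ _ h2))
          (AddSubgroup.sub_mem _ (AddSubgroup.sub_mem _ (hm _ _ (by simp [h1, h2])) (hm _ _ h1)) (hm _ _ h2))
  rw [σ]
  refine AddSubgroup.iSup_induction (C := fun x => Commute (D.Ti i) (D.el x)) _ key ?_ ?_ ?_
  · rintro v x ⟨t, rfl⟩
    exact D.Ti_comm_q v.2 t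
  · exact Commute.one_right _
  · intro x y hx hy; rw [el_add]; exact hx.mul_right hy

/-- The Weyl element moves `Y` into the radical. -/
def MovesY (w : Vn) (hw : w 0 = 0) : Prop :=
  D.κ mT * D.Γ (Y 0 w hw) * (D.κ mT)⁻¹ = D.σ (-sy w (bv 0))

theorem movesY_conj {A : LGn} (hA0 : LM A *ᵥ bv 0 = bv 0) (hAr : bv 0 ᵥ* LM A = bv 0) {v w : Vn} (hv : v 0 = 0)
    (hw : w 0 = 0) (hvw : LM A *ᵥ v = w) (h : D.MovesY v hv) : D.MovesY w hw := by
  have hc := D.comm_T hA0 hAr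
  have := congrArg (fun g => D.Γ A * g * (D.Γ A)⁻¹) h
  simp only [D.σ_conj A (S := -sy v (bv 0)) (by rw [conjTranspose_neg, sy_herm]), Matrix.mul_neg,
    Matrix.neg_mul, sy_conj, hA0, hvw] at this
  rw [MovesY, ← this, ← Y_conj A 0 hv hw (inv_row hAr) hvw, map_mul, map_mul, map_inv,
    show D.Γ A * (D.κ mT * D.Γ (Y 0 v hv) * (D.κ mT)⁻¹) * (D.Γ A)⁻¹ =
      (D.Γ A * D.κ mT) * D.Γ (Y 0 v hv) * (D.Γ A * D.κ mT)⁻¹ by group, hc.eq]
  group

theorem Ti0_Y {w : Vn} (hw : w 0 = 0) : D.MovesY w hw := by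
  have hb : ∀ c : F, (c • bv 1 : Vn) 0 = 0 := fun c => by simp [bv]
  have hadd : ∀ c d : F, D.MovesY _ (hb c) → D.MovesY _ (hb d) → D.MovesY _ (hb (c + d)) := by
    intro c d h1 h2
    unfold MovesY at *
    simp only [add_smul, ← Y_add (hb c) (hb d), map_mul, sy_add, neg_add, D.σ_add, ← h1, ← h2]
    group
  have hbase : ∀ r, D.MovesY _ (hb (cs D.ρ r : F)) := fun r => by
    have e : Y 0 _ (hb (cs D.ρ r : F)) = x10 (cs D.ρ r : F) := by
      simp only [x10, eg_eq_Y]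
      congr 1
      funext a; by_cases ha : a = 1
      · subst ha; simp [bv]
      · simp [bv, ha]
    unfold MovesY
    rw [e, Γ_apply, D.rels.ty r, ← el_Λ, ← σ_E]
    congr 1
    ext a b
    have h01 : (0 : Fin (m + 2)) ≠ 1 := Fin.zero_ne_one (n := m)
    simp only [sy, Matrix.add_apply, Matrix.neg_apply, vecMulVec_apply, single_apply, bv, Pi.smul_apply,
      Pi.star_apply, smul_eq_mul, star_neg, star_star, star_mul']
    rcases eq_or_ne a 0 with rfl | ha0 <;> rcases eq_or_ne b 0 with rfl | hb0 <;>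
      [skip; skip; skip; skip] <;>
      (try rcases eq_or_ne a 1 with rfl | ha1) <;> (try rcases eq_or_ne b 1 with rfl | hb1) <;>
      simp [*, h01, h01.symm, Ne.symm, Pi.single_apply]
  have hscale : ∀ (c : F) (d : Kˣ), D.MovesY _ (hb c) → D.MovesY _ (hb (((d : K) : F) * c)) := fun c d h =>
    D.movesY_conj (fixAt_dK (F := F) (Fin.zero_ne_one (n := m)) d).1 (fixAt_dK (F := F) (Fin.zero_ne_one (n := m)) d).2
      (hb c) (hb _) (by rw [mulVec_smul, dK_bv, if_pos rfl, smul_smul, mul_comm]) h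
  have hK : ∀ (r : Fin 2) (t : K), D.MovesY _ (hb ((t : F) * (cs D.ρ r : F))) := fun r t => by
    rcases eq_or_ne t 0 with rfl | ht
    · unfold MovesY
      simp [Y_zero, sy, zero_vecMulVec, vecMulVec_zero, σ_zero]
    · exact hscale _ (Units.mk0 t ht) (hbase r)
  have hall : ∀ c, D.MovesY _ (hb c) := fun c => by
    have := hadd _ _ (hK 0 (p1 (D.ρ : F) D.hρ c)) (hK 1 (p2 (D.ρ : F) c))
    simpa [cs, p_eq] using this
  rcases eq_or_ne w 0 with rfl | hw0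
  · have := hall 0; simpa [MovesY] using this
  obtain ⟨i, hi⟩ := Function.ne_iff.mp hw0
  have hi0 : i ≠ 0 := fun e => hi (by rw [e]; exact hw)
  obtain ⟨A, z, hA0, hA1, hAr⟩ := exists_colL1 hi0 hi
  exact D.movesY_conj hA0 (hAr hw) (hb ((z⁻¹ : Fˣ) : F)) hw
    (by rw [mulVec_smul, hA1, smul_smul, Units.inv_mul, one_smul]) (hall _)

theorem Ti_Y (i : Fin (m + 2)) {w : Vn} (hw : w i = 0) :
    D.Ti i * D.Γ (Y i w hw) * (D.Ti i)⁻¹ = D.σ (-sy w (bv i)) := by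
  obtain ⟨hs, hs', hinv, hT⟩ := swap_LM (F := F) i
  set s : LGn := pg (Equiv.swap 0 i)
  set w' := LM s *ᵥ w
  have hw' : w' 0 = 0 := by
    show (((pgl _ : GLn) : Mn) *ᵥ w) 0 = 0
    rw [pgl_mulVec]; simpa using hw
  have hsw : LM s *ᵥ w' = w := by
    simp [w', s, mulVec_mulVec, ← LM_mul, ← map_mul, LM_one]
  have hsr : bv 0 ᵥ* LM s⁻¹ = bv i := by rw [hinv, ← mulVec_transpose, hT, hs]
  have := congrArg (fun g => D.Γ s * g * (D.Γ s)⁻¹) (D.Ti0_Y hw')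
  simp only [D.σ_conj s (S := -sy w' (bv 0)) (by rw [conjTranspose_neg, sy_herm]), Matrix.mul_neg, Matrix.neg_mul,
    sy_conj, hsw, hs] at this
  rw [← this, ← Y_conj s 0 hw' hw hsr hsw, map_mul, map_mul, map_inv, Ti]
  simp only [s]
  group

theorem Ti_sq (i : Fin (m + 2)) : D.Ti i * D.Ti i = D.Γ (dK i (-1)) := by
  rw [Ti, show ∀ a b : G, (a * b * a⁻¹) * (a * b * a⁻¹) = a * (b * b) * a⁻¹ from fun a b => by group, T_sq,
    Γ_conj]
  congr 1
  refine Subtype.ext ?_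
  show pgl (Equiv.swap 0 i) * dgl 0 (liftK (-1)) * (pgl (Equiv.swap 0 i))⁻¹ = dgl i (liftK (-1))
  rw [pgl_conj_dgl, Equiv.swap_apply_left]

theorem Ti_Y' (i : Fin (m + 2)) {w : Vn} (hw : w i = 0) :
    D.Ti i * D.σ (-sy w (bv i)) * (D.Ti i)⁻¹ = D.Γ (Y i (-w) (by simp [hw])) := by
  rw [← D.Ti_Y i hw, show ∀ a b : G, a * (a * b * a⁻¹) * a⁻¹ = (a * a) * b * (a * a)⁻¹ from fun a b => by group,
    Ti_sq, Γ_conj]
  congr 1
  apply LM_inj
  have hl : (liftK (-1 : Kˣ) : F) = -1 := by rw [liftK_coe, Units.val_neg, Units.val_one]; rfl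
  have hinv : bv i ᵥ* LM (dK i (-1 : Kˣ) : LGn)⁻¹ = -bv i := by
    rw [← map_inv, inv_neg, inv_one]
    show bv i ᵥ* ((dgl i (liftK (-1 : Kˣ)) : GLn) : Mn) = _
    rw [← mulVec_transpose, dgl_transpose, Sp.Glue.dgl_bv, if_pos rfl, hl, neg_one_smul]
  have hd : LM (dK i (-1 : Kˣ) : LGn) *ᵥ w = w := by
    show ((dgl i (liftK (-1 : Kˣ)) : GLn) : Mn) *ᵥ w = _
    rw [dgl_mulVec]; funext x
    by_cases hx : x = i
    · subst hx; simp [hw]
    · simp [hx]
  rw [LM_mul, LM_mul, Y, rg_coe, mul_add, mul_one, add_mul, LM_mul_inv, mul_vecMulVec, vecMulVec_mul, hd, hinv, Y,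
    rg_coe, vecMulVec_neg, neg_vecMulVec]

theorem tz_mul (a b : Fˣ) : (tz (a * b) : LGn) = tz a * tz b := by
  have hc : ∀ (x : Fˣ) (y : Kˣ), Commute (dd 0 1 x : LGn) (dK 1 y) := fun x y => Subtype.ext
    (((dgl_commute 0 1 x (liftK y)).mul_left (dgl_commute 1 1 x⁻¹ (liftK y))).eq)
  simp only [tz]
  rw [map_mul starU, map_mul normK, mul_inv, mul_inv, map_mul, map_mul,
    Commute.mul_mul_mul_comm (hc (starU b)⁻¹ (normK a)⁻¹)]

theorem T_dd (z : Fˣ) : D.κ mT * D.Γ (dd 0 1 z) * (D.κ mT)⁻¹ = D.Γ (tz z) := by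
  obtain ⟨k, rfl⟩ := D.gen z
  show D.κ mT * D.Γ (dd 0 1 (D.ρ ^ k)) * (D.κ mT)⁻¹ = D.Γ (tz (D.ρ ^ k))
  induction k with
  | zero => simp [tz]
  | succ k ih =>
    rw [pow_succ, map_mul, map_mul, tz_mul, map_mul, ← ih,
      show D.Γ (tz D.ρ) = D.κ mT * D.Γ (dd 0 1 D.ρ) * (D.κ mT)⁻¹ from D.rels.tS.symm]
    group

end Glue

end Cfsg.Agent.KSG55.Herm
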